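import Mathlib
import Cfsg.Prelude.Def_LieClassical
import Cfsg.Agent.H67.QuadExt

set_option autoImplicit false

namespace Cfsg.Agent.H67

open Matrix

section restrict

variable {F K : Type*} [Field F] [Field K] [Algebra F K] {I n : Type} [Fintype I] [DecidableEq I]
  [Fintype n] [DecidableEq n] {G : Type*} [Group G]

/-- Restriction of scalars of a matrix representation along coordinates `e`. -/
noncomputable def restrictHom (φ : G →* Matrix n n K) (e : (I → F) ≃ₗ[F] (n → K)) :
    G →* Matrix I I F where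
  toFun g := LinearMap.toMatrix'
    (e.symm.toLinearMap ∘ₗ ((Matrix.mulVecLin (φ g)).restrictScalars F) ∘ₗ e.toLinearMap)
  map_one' := by
    rw [map_one, Matrix.mulVecLin_one]
    rw [← LinearMap.toMatrix'_id]
    congr 1
    apply LinearMap.ext
    intro w
    simp
  map_mul' g h := by
    rw [← LinearMap.toMatrix'_comp, map_mul, Matrix.mulVecLin_mul]
    congr 1
    apply LinearMap.ext
    intro w
    simp

/-- The defining property of `restrictHom`. -/
theorem restrictHom_apply (φ : G →* Matrix n n K) (e : (I → F) ≃ₗ[F] (n → K)) (g : G) (w : I → F) :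
    e (restrictHom φ e g *ᵥ w) = φ g *ᵥ e w := by
  show e (LinearMap.toMatrix' _ *ᵥ w) = _
  rw [LinearMap.toMatrix'_mulVec]
  simp

/-- `restrictHom` is injective when the representation is. -/
theorem restrictHom_injective (φ : G →* Matrix n n K) (e : (I → F) ≃ₗ[F] (n → K))
    (hφ : Function.Injective φ) : Function.Injective (restrictHom φ e) := by
  intro g h hgh
  apply hφ
  apply Matrix.ext_iff_mulVec.2
  intro v
  obtain ⟨w, rfl⟩ := e.surjective v
  rw [← restrictHom_apply, ← restrictHom_apply, hgh]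

/-- Restriction of scalars lands in the isometry group of a transported form. -/
theorem exists_isometry_embedding (φ : G →* Matrix n n K) (hφ : Function.Injective φ)
    (e : (I → F) ≃ₗ[F] (n → K)) (Q : (I → F) → F) (h : (n → K) → K)
    (hQ : ∀ w, algebraMap F K (Q w) = h (e w)) (hh : ∀ g v, h (φ g *ᵥ v) = h v) :
    ∃ ψ : G →* ↥(Cfsg.isometryGroup F Q), Function.Injective ψ := by
  refine ⟨((restrictHom φ e).toHomUnits).codRestrict (Cfsg.isometryGroup F Q) (fun g u _ => ?_), ?_⟩
  · apply (algebraMap F K).injective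
    rw [hQ, hQ]
    show h (e (restrictHom φ e g *ᵥ u)) = _
    rw [restrictHom_apply, hh]
  · intro g g' hgg
    exact restrictHom_injective φ e hφ (congrArg (fun z : ↥(Cfsg.isometryGroup F Q) => ((z : GL I F) : Matrix I I F)) hgg)

/-- A matrix preserving the standard alternating form pointwise is symplectic. -/
theorem mem_symplectic_of_preserves {m : ℕ} (A : Matrix (Fin m ⊕ Fin m) (Fin m ⊕ Fin m) F)
    (h : ∀ u v : Fin m ⊕ Fin m → F,
      ∑ i, ((A *ᵥ u) (.inl i) * (A *ᵥ v) (.inr i) - (A *ᵥ u) (.inr i) * (A *ᵥ v) (.inl i)) =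
      ∑ i, (u (.inl i) * v (.inr i) - u (.inr i) * v (.inl i))) :
    A ∈ Matrix.symplecticGroup (Fin m) F := by
  rw [SymplecticGroup.mem_iff']
  have hJ : ∀ u v : Fin m ⊕ Fin m → F, u ⬝ᵥ (Matrix.J (Fin m) F *ᵥ v) =
      -∑ i, (u (.inl i) * v (.inr i) - u (.inr i) * v (.inl i)) := by
    intro u v
    simp [Matrix.J, Matrix.fromBlocks_mulVec, dotProduct, Fintype.sum_sum_type,
      Matrix.neg_mulVec, Finset.sum_sub_distrib]
    abel
  apply Matrix.ext_iff_mulVec.2
  intro v
  apply dotProduct_eq _ _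
  intro u
  rw [dotProduct_comm _ u, dotProduct_comm _ u, ← Matrix.mulVec_mulVec, ← Matrix.mulVec_mulVec,
    Matrix.dotProduct_mulVec, Matrix.vecMul_transpose, hJ, hJ, h]

end restrict

variable {F K : Type*} [Field F] [Fintype F] [Field K] [Fintype K]

/-- An injective linear map between the spaces `F^(2n)` and `K^n` as a linear equivalence. -/
theorem exists_coord_equiv [Algebra F K] {q : ℕ} (hF : Fintype.card F = q)
    (hK : Fintype.card K = q ^ 2) {I n : Type} [Fintype I] [Fintype n]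
    (hI : Fintype.card I = 2 * Fintype.card n) (L : (I → F) →ₗ[F] (n → K))
    (hL : ∀ w, L w = 0 → w = 0) : ∃ e : (I → F) ≃ₗ[F] (n → K), ∀ w, e w = L w := by
  classical
  have hinj : Function.Injective L := (injective_iff_map_eq_zero L).2 hL
  have hbij : Function.Bijective L := (Fintype.bijective_iff_injective_and_card _).2 ⟨hinj, by
    rw [Fintype.card_fun, Fintype.card_fun, hF, hK, hI, ← pow_mul]⟩
  exact ⟨LinearEquiv.ofBijective L hbij, fun w => rfl⟩

/-- `GU_m(q)` as matrices preserves its Hermitian form. -/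
theorem GU_preserves {m q : ℕ} (g : ↥(Cfsg.GU m K q)) (u v : Fin m → K) :
    Cfsg.hermForm m K q (((g : GL (Fin m) K) : Matrix (Fin m) (Fin m) K) *ᵥ u)
      (((g : GL (Fin m) K) : Matrix (Fin m) (Fin m) K) *ᵥ v) = Cfsg.hermForm m K q u v :=
  g.2 u v

/-- The matrix representation of `GU_m(q)`. -/
def GUMat (m : ℕ) (K : Type*) [Field K] (q : ℕ) : ↥(Cfsg.GU m K q) →* Matrix (Fin m) (Fin m) K :=
  (Units.coeHom _).comp (Cfsg.GU m K q).subtype

theorem GUMat_injective (m q : ℕ) : Function.Injective (GUMat m K q) :=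
  fun _ _ h => Subtype.ext (Units.ext h)

/-- `GU_m(q)` embeds in `Sp_2m(q)`. -/
theorem GU_embeds_symplectic {q : ℕ} (hK : Fintype.card K = q ^ 2) (hF : Fintype.card F = q)
    (m : ℕ) : ∃ φ : ↥(Cfsg.GU m K q) →* ↥(Matrix.symplecticGroup (Fin m) F),
      Function.Injective φ := by
  obtain ⟨ι⟩ := exists_ringHom_quadExt hF hK
  letI : Algebra F K := ι.toAlgebra
  obtain ⟨θ, hθ⟩ := exists_pow_q_ne hK
  let L : (Fin m ⊕ Fin m → F) →ₗ[F] (Fin m → K) :=
    { toFun := fun w i => ι (w (.inl i)) + ι (w (.inr i)) * θ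
      map_add' := fun u v => by funext i; simp; ring
      map_smul' := fun c u => by
        funext i; simp [Algebra.smul_def, RingHom.algebraMap_toAlgebra]; ring }
  obtain ⟨e, he⟩ := exists_coord_equiv hF hK (by simp; ring) L (fun w hw => by
    funext j
    rcases j with i | i
    · exact (coord_injective hF ι hθ (congrFun hw i)).1
    · exact (coord_injective hF ι hθ (congrFun hw i)).2)
  have key : ∀ u v, Cfsg.hermForm m K q (e u) (e v) - Cfsg.hermForm m K q (e v) (e u) =
      ι (∑ i, (u (.inl i) * v (.inr i) - u (.inr i) * v (.inl i))) * (θ ^ q - θ) := by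
    intro u v
    rw [he, he]
    simp only [Cfsg.hermForm, L, LinearMap.coe_mk, AddHom.coe_mk, map_sum, Finset.sum_mul,
      ← Finset.sum_sub_distrib]
    refine Finset.sum_congr rfl fun i _ => ?_
    simp only [add_pow_q hK, mul_pow, ringHom_pow_card hF, map_sub, map_mul]
    ring
  have hmem : ∀ g, restrictHom (GUMat m K q) e g ∈ Matrix.symplecticGroup (Fin m) F := by
    intro g
    apply mem_symplectic_of_preserves
    intro u v
    apply ι.injective
    apply mul_right_cancel₀ (sub_ne_zero.2 hθ)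
    rw [← key, ← key, restrictHom_apply, restrictHom_apply]
    show Cfsg.hermForm m K q (GUMat m K q g *ᵥ _) _ - _ = _
    rw [show ∀ a b, Cfsg.hermForm m K q (GUMat m K q g *ᵥ a) (GUMat m K q g *ᵥ b) =
      Cfsg.hermForm m K q a b from fun a b => GU_preserves g a b,
      show ∀ a b, Cfsg.hermForm m K q (GUMat m K q g *ᵥ a) (GUMat m K q g *ᵥ b) =
      Cfsg.hermForm m K q a b from fun a b => GU_preserves g a b]
  refine ⟨(restrictHom (GUMat m K q) e).codRestrict _ hmem, ?_⟩
  intro g g' h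
  exact restrictHom_injective _ e (GUMat_injective m q) (congrArg Subtype.val h)

omit [Fintype F] [Fintype K] in
/-- The hyperbolic pairing used for embeddings of unitary groups into orthogonal groups. -/
theorem unitary_pair_identity {q : ℕ} (ι : F →+* K) (hι : ∀ x, ι x ^ q = ι x)
    (hadd : ∀ x y : K, (x + y) ^ q = x ^ q + y ^ q) (θ μ μ' : K)
    (hμ : μ ^ (q + 1) = -1) (hμ' : μ' ^ (q + 1) = -1) (hqq : ∀ x : K, (x ^ q) ^ q = x)
    (hθ : θ ^ q ≠ θ) (hne : μ ≠ μ') (x₁ x₂ y₁ y₂ : F) :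
    let s := ι x₁ + ι x₂ * θ
    let t := ((ι y₁ * (-θ ^ q / (θ - θ ^ q)) + ι y₂ * (1 / (θ - θ ^ q))) / (1 + μ * μ' ^ q)) ^ q
    (s + t) * (s + t) ^ q + (μ * s + μ' * t) * (μ * s + μ' * t) ^ q = ι (x₁ * y₁ + x₂ * y₂) := by
  intro s t
  have hμq : μ * μ ^ q = -1 := by rw [← pow_succ', hμ]
  have hμq' : μ' * μ' ^ q = -1 := by rw [← pow_succ', hμ']
  have hc : 1 + μ * μ' ^ q ≠ 0 := by
    intro h
    apply hne
    have h1 : μ * μ' ^ q = μ' * μ' ^ q := by rw [hμq']; linear_combination h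
    have h2 : μ' ^ q ≠ 0 := fun h0 => by rw [h0, mul_zero] at hμq'; exact one_ne_zero (neg_eq_zero.1 hμq'.symm)
    exact mul_right_cancel₀ h2 h1
  have hδ : θ - θ ^ q ≠ 0 := sub_ne_zero.2 hθ.symm
  let u := ι y₁ * (-θ ^ q / (θ - θ ^ q)) + ι y₂ * (1 / (θ - θ ^ q))
  have ht : t ^ q = u / (1 + μ * μ' ^ q) := hqq _
  have h1' : ∀ a b : K, (a + b) * (a + b) ^ q + (μ * a + μ' * b) * (μ * a + μ' * b) ^ q =
      a * (b ^ q * (1 + μ * μ' ^ q)) + a ^ q * (b * (1 + μ' * μ ^ q)) := by
    intro a b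
    rw [hadd, hadd, mul_pow, mul_pow]
    linear_combination (a * a ^ q) * hμq + (b * b ^ q) * hμq'
  have h1 := h1' s t
  have hneg : (-1 : K) ^ q = -1 := by simpa using hι (-1)
  have h0 : (0 : K) ^ q = 0 := by simpa using hι 0
  have h2 : t ^ q * (1 + μ * μ' ^ q) = u := by rw [ht]; exact div_mul_cancel₀ u hc
  have hsub : (θ - θ ^ q) ^ q = θ ^ q - θ := by
    rw [sub_eq_add_neg, hadd, neg_pow, hneg, hqq]; ring
  have h3 : t * (1 + μ' * μ ^ q) = u ^ q := by
    rw [← h2, mul_pow, hqq, hadd, mul_pow, hqq, one_pow, mul_comm μ']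
  have h4 : u ^ q = ι y₁ * (-θ / (θ ^ q - θ)) + ι y₂ * (1 / (θ ^ q - θ)) := by
    simp only [u]
    rw [hadd, mul_pow, mul_pow, div_pow, div_pow, neg_pow, hneg, hqq, one_pow, hsub, hι, hι]
    ring
  have h5 : s ^ q = ι x₁ + ι x₂ * θ ^ q := by
    simp only [s]; rw [hadd, mul_pow, hι, hι]
  rw [h1, h2, h3, h4, h5]
  simp only [s, u, map_add, map_mul]
  have : θ ^ q - θ = -(θ - θ ^ q) := by ring
  rw [this]
  field_simp
  ring

end Cfsg.Agent.H67
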