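import Mathlib
import Cfsg.Prelude.Def_Classical
import Cfsg.Agent.H67.IsometryConj

set_option autoImplicit false

/-!
# Conjugacy of semisimple symplectic and orthogonal matrices
-/

namespace Cfsg.Agent.H67

open Matrix

variable {F : Type*} [Field F] {ι : Type*} [Fintype ι] [DecidableEq ι]

/-- The linear automorphism of a matrix unit. -/
noncomputable def glEquiv (ι : Type*) [Fintype ι] [DecidableEq ι] (F : Type*) [Field F] :
    GL ι F ≃* ((ι → F) ≃ₗ[F] (ι → F)) :=
  Matrix.GeneralLinearGroup.toLin.trans (LinearMap.GeneralLinearGroup.generalLinearEquiv F _)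

theorem glEquiv_apply (g : GL ι F) (v : ι → F) :
    glEquiv ι F g v = (g : Matrix ι ι F) *ᵥ v := by
  change Matrix.toLin' (g : Matrix ι ι F) v = _
  rw [Matrix.toLin'_apply]

theorem natCast_ne_zero_of_coprime (p : ℕ) [Fact p.Prime] [CharP F p] {k : ℕ}
    (h : k.Coprime p) : (k : F) ≠ 0 := by
  rw [Ne, CharP.cast_eq_zero_iff F p]
  exact ((Fact.out : p.Prime).coprime_iff_not_dvd).1 h.symm

theorem pow_eq_one_of_semiconj {M : Type*} [Monoid M] {c : Mˣ} {a b : M} {k : ℕ}
    (h : SemiconjBy (c : M) a b) (ha : a ^ k = 1) : b ^ k = 1 := by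
  have h1 := h.pow_right k
  rw [ha] at h1
  exact c.mul_left_inj.1 (by rw [← h1.eq, mul_one, one_mul])

/-- Semisimple symplectic matrices are conjugate iff they are linearly conjugate. -/
theorem sp_isConj_iff_matrix [Fintype F] {p : ℕ} [Fact p.Prime] [CharP F p] {m : ℕ}
    (A B : Matrix.symplecticGroup (Fin m) F) (hA : (orderOf A).Coprime p) :
    IsConj A B ↔ IsConj (A : Matrix (Fin m ⊕ Fin m) (Fin m ⊕ Fin m) F)
      (B : Matrix (Fin m ⊕ Fin m) (Fin m ⊕ Fin m) F) := by
  constructor
  · intro h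
    exact MonoidHom.map_isConj (Matrix.symplecticGroup (Fin m) F).subtype h
  · rintro ⟨c, hc⟩
    have hAk := pow_orderOf_eq_one A
    have hBk : B ^ orderOf A = 1 := by
      apply Subtype.ext
      rw [SubmonoidClass.coe_pow]
      exact pow_eq_one_of_semiconj hc (by rw [← SubmonoidClass.coe_pow, hAk]; rfl)
    have hpres : ∀ (g : Matrix.symplecticGroup (Fin m) F) x z,
        H2.sympBilin m F (H2.spToLinearEquiv m F g x) (H2.spToLinearEquiv m F g z) =
          H2.sympBilin m F x z := fun g x z => (H2.spEquivIsometries m F g).2 x z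
    obtain ⟨g, hg, hgA⟩ := symp_conj_of_gl_conj (A := H2.spToLinearEquiv m F A)
      (A' := H2.spToLinearEquiv m F B) (H2.sympBilin m F) (H2.sympBilin_nondegenerate m F)
      (H2.sympBilin_isAlt m F) (natCast_ne_zero_of_coprime p hA)
      (by rw [← map_pow, hAk, map_one]) (by rw [← map_pow, hBk, map_one]) (hpres A) (hpres B)
      (glEquiv _ F c) (fun v => by
        rw [H2.spToLinearEquiv_apply, H2.spToLinearEquiv_apply, glEquiv_apply, glEquiv_apply,
          Matrix.mulVec_mulVec, Matrix.mulVec_mulVec, hc.eq])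
    obtain ⟨G, hG⟩ := (H2.spEquivIsometries m F).surjective ⟨g, hg⟩
    have hGv : ∀ v, g v = (G : Matrix (Fin m ⊕ Fin m) (Fin m ⊕ Fin m) F) *ᵥ v := fun v => by
      rw [← H2.spEquivIsometries_apply, hG]
    refine isConj_iff.2 ⟨G, mul_inv_eq_iff_eq_mul.2 (Subtype.ext (Matrix.ext_iff_mulVec.2 fun v => ?_))⟩
    simp only [Submonoid.coe_mul, ← Matrix.mulVec_mulVec, ← hGv]
    have := hgA v
    rwa [H2.spToLinearEquiv_apply, H2.spToLinearEquiv_apply] at this

/-- Semisimple orthogonal matrices of odd order are conjugate iff they are linearly conjugate. -/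
theorem orth_isConj_iff_matrix [Fintype F] {p : ℕ} [Fact p.Prime] [CharP F p] {I : Type} [Fintype I]
    [DecidableEq I] (Q : QuadraticForm F (I → F)) (hQ : (QuadraticMap.polarBilin Q).Nondegenerate)
    (A B : ↥(Cfsg.isometryGroup F ⇑Q)) (hodd : Odd (orderOf A)) (hA : (orderOf A).Coprime p) :
    IsConj A B ↔ IsConj ((A : GL I F) : Matrix I I F) ((B : GL I F) : Matrix I I F) := by
  constructor
  · intro h
    exact MonoidHom.map_isConj ((Units.coeHom _).comp (Cfsg.isometryGroup F ⇑Q).subtype) h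
  · rintro ⟨c, hc⟩
    have hAk : (A : GL I F) ^ orderOf A = 1 := by
      rw [← SubmonoidClass.coe_pow, pow_orderOf_eq_one]; rfl
    have hBk : (B : GL I F) ^ orderOf A = 1 := by
      apply Units.ext
      rw [Units.val_pow_eq_pow_val]
      exact pow_eq_one_of_semiconj hc (by rw [← Units.val_pow_eq_pow_val, hAk]; rfl)
    obtain ⟨g, hg, hgA⟩ := orth_conj_of_gl_conj (A := glEquiv I F A) (A' := glEquiv I F B) Q hQ hodd
      (natCast_ne_zero_of_coprime p hA) (by rw [← map_pow, hAk, map_one])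
      (by rw [← map_pow, hBk, map_one]) (fun v => by rw [glEquiv_apply]; exact A.2 v v)
      (fun v => by rw [glEquiv_apply]; exact B.2 v v) (glEquiv I F c) (fun v => by
        rw [glEquiv_apply, glEquiv_apply, glEquiv_apply, glEquiv_apply,
          Matrix.mulVec_mulVec, Matrix.mulVec_mulVec, hc.eq])
    obtain ⟨G, rfl⟩ := (glEquiv I F).surjective g
    have hG : G ∈ Cfsg.isometryGroup F ⇑Q := fun u _ => by
      change Q ((G : Matrix I I F) *ᵥ u) = Q u
      rw [← glEquiv_apply]; exact hg u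
    refine isConj_iff.2 ⟨⟨G, hG⟩, mul_inv_eq_iff_eq_mul.2 (Subtype.ext (Units.ext
      (Matrix.ext_iff_mulVec.2 fun v => ?_)))⟩
    simp only [Subgroup.coe_mul, Units.val_mul, ← Matrix.mulVec_mulVec]
    have := hgA v
    rwa [glEquiv_apply, glEquiv_apply, glEquiv_apply, glEquiv_apply] at this

end Cfsg.Agent.H67
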