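import Cfsg.Agent.H67.ChevTorusLang
import Cfsg.Agent.H64.TwinE6.Main
import Cfsg.Agent.H64.Chev.AutDiag
import Cfsg.Agent.H47.CenterCard
import Cfsg.Agent.H23.RegularTorus

set_option autoImplicit false
set_option maxRecDepth 20000

/-!
# Three classes of subgroups `F₄(2)` in `²E₆(2)`

The group fixed by the graph automorphism over the prime field has trivial centraliser, and its conjugates by an outer
diagonal element are not conjugate.
-/

namespace Cfsg.Agent.H67.ThreeF4

open Cfsg.Lie Cfsg.Agent.H46 Cfsg.Agent.H65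
open Cfsg.Agent.H64.AutChev (charOf isRootCharacter_charOf diagUnit diagUnit_conj_xg cj_diagUnit_group charOf_simple)
open scoped Matrix MatrixGroups

section Centralizer

variable {L : Type*} [Field L]

/-- A positive orbit element with all parameters one. -/
noncomputable def pOne (j : Fin graphE6.m) : GL chevE6.Idx L := graphE6.pX goodE6 j fun _ => 1

/-- The word of the longest element in orbit reflections. -/
def topWord : List (Fin chevE6.rank) := graphE6.top.flatMap graphE6.orb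

theorem topWord_neg : ∀ r : Fin chevE6.nroots, chevE6.IsPosRoot r →
    chevE6.IsNegRoot ((topWord.map goodE6.sPerm).prod r : Fin chevE6.nroots).val := by decide +kernel

theorem orb_distinct : ∀ j : Fin graphE6.m, ∀ k ∈ graphE6.orb j, ∀ k' ∈ graphE6.orb j, k' ≠ k →
    chevE6.simple k' ≠ chevE6.simple k := by decide +kernel

theorem cover_orb : ∀ i : Fin chevE6.rank, ∃ j : Fin graphE6.m, i ∈ graphE6.orb j := by decide +kernel

theorem orb_nodup : ∀ j : Fin graphE6.m, (graphE6.orb j).Nodup := by decide +kernel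

/-- A product of fundamental root elements in an orbit lies in the radical of a node only if its coefficient there
vanishes. -/
theorem coeff_eq_zero {i : Fin chevE6.rank} (a : Fin chevE6.rank → L) :
    ∀ l : List (Fin chevE6.rank), l.Nodup → i ∈ l →
      (l.map fun k : Fin chevE6.rank => goodE6.xg (chevE6.simple k.val) (a k)).prod ∈ chevE6.unipotentRadical L {(i : ℕ)} → a i = 0
  | [], _, h, _ => absurd h List.not_mem_nil
  | k :: l, hnd, hi, h => by
    rw [List.nodup_cons] at hnd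
    rw [List.map_cons, List.prod_cons] at h
    have hmem : ∀ k' : Fin chevE6.rank, k' ≠ i →
        goodE6.xg (chevE6.simple k') (a k') ∈ chevE6.unipotentRadical L {(i : ℕ)} := by
      intro k' hk'
      rw [← goodE6.radical_singleton i.2]
      refine Subgroup.subset_closure ⟨_, a k', goodE6.isPosRoot_simple k'.2, ?_, goodE6.coe_xg _ _⟩
      intro e
      exact hk' (Fin.ext (by
        have := congrArg (fun r => goodE6.rc r i) e
        simp only [goodE6.rc_simple k'.2, goodE6.rc_simple i.2] at this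
        by_contra hne
        simp [Fin.ext_iff, Ne.symm hne] at this))
    by_cases hk : k = i
    · subst hk
      have hrest : (l.map fun k' : Fin chevE6.rank => goodE6.xg (chevE6.simple k'.val) (a k')).prod ∈
          chevE6.unipotentRadical L {(k : ℕ)} := by
        refine Subgroup.list_prod_mem _ fun x hx => ?_
        obtain ⟨k', hk', rfl⟩ := List.mem_map.1 hx
        exact hmem k' fun e => hnd.1 (e ▸ hk')
      have h1 := mul_mem h (inv_mem hrest)
      rw [mul_inv_cancel_right, goodE6.unipotentRadical_eq] at h1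
      by_contra hne
      have h2 := goodE6.mem_of_xg_mem_posSub goodE6.posClosed_radSet (goodE6.simple_lt k.2) hne h1
      exact ((goodE6.mem_radSet_singleton k.2).1 h2.2).2 rfl
    · have hi' : i ∈ l := by simpa [Ne.symm hk] using hi
      exact coeff_eq_zero a l hnd.2 hi' ((Subgroup.mul_mem_cancel_left _ (hmem k hk)).1 h)

/-- An element commuting with the positive orbit elements lies in the Borel subgroup. -/
theorem mem_borel_of_commute {z : GL chevE6.Idx L} (hz : z ∈ chevE6.group L)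
    (hc : ∀ j, z * pOne j = pOne j * z) : z ∈ chevE6.borelSubgroup L := by
  obtain ⟨W, v, d, u, hv, hd, hu, rfl⟩ := Chev.exists_standard_form goodE6 hz
  set n : GL chevE6.Idx L := goodE6.nProd W
  have hn : n ∈ chevE6.monomialSubgroup L := goodE6.nProd_mem W
  have huU : u ∈ chevE6.posUnipotent L := goodE6.posSub_le_posUnipotent _ hu
  suffices hpos : ∀ i, chevE6.IsPosRoot (goodE6.perm n (goodE6.simpleF i)) by
    exact mul_mem (mul_mem (mul_mem (Subgroup.mem_sup_left hv) (Subgroup.mem_sup_right hd))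
      (Subgroup.mem_sup_right (goodE6.mem_diagonal_of_pos hn hpos))) (Subgroup.mem_sup_left huU)
  intro i
  by_contra hneg
  obtain ⟨j, hj⟩ := cover_orb i
  have hp : (pOne j : GL chevE6.Idx L) ∈ chevE6.posUnipotent L := by
    rw [goodE6.posUnipotent_eq]
    refine Subgroup.list_prod_mem _ fun x hx => ?_
    obtain ⟨k, -, rfl⟩ := List.mem_map.1 hx
    exact goodE6.xg_mem_posSub (S := Set.univ) (goodE6.isPosRoot_simple k.2) trivial _
  set a := u * pOne j * u⁻¹
  have haU : a ∈ chevE6.posUnipotent L := mul_mem (mul_mem huU hp) (inv_mem huU)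
  have hna : n * a * n⁻¹ ∈ chevE6.posUnipotent L := by
    have e : n * a * n⁻¹ = d⁻¹ * (v⁻¹ * pOne j * v) * d := by
      have := hc j
      calc n * a * n⁻¹ = d⁻¹ * v⁻¹ * (v * d * n * u * pOne j) * (n * u)⁻¹ := by simp only [a]; group
        _ = _ := by rw [this]; group
    rw [e]
    have h1 : v⁻¹ * pOne j * v ∈ chevE6.posUnipotent L := mul_mem (mul_mem (inv_mem hv) hp) hv
    simpa using goodE6.conj_posUnipotent (Subgroup.mem_sup_right (inv_mem hd)) h1
  -- `a` has no coordinate at the roots inverted by `n`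
  obtain ⟨a₁, ha₁, a₂, ha₂, e⟩ := goodE6.factor {r | r ∉ goodE6.invSet n} haU
  have ha₂1 : a₂ = 1 := by
    have h2 : a₂ ∈ goodE6.posSub (goodE6.invSet n) :=
      goodE6.posSub_mono (fun r _ hr => by_contra hr) ha₂
    have hn2 : n * a₂ * n⁻¹ ∈ chevE6.negUnipotent L := goodE6.conj_posSub_invSet hn h2
    have hn1 : n * a₁ * n⁻¹ ∈ chevE6.posUnipotent L := goodE6.conj_posSub_compl hn ha₁
    have h3 : n * a₂ * n⁻¹ ∈ chevE6.posUnipotent L := by
      have : n * a₂ * n⁻¹ = (n * a₁ * n⁻¹)⁻¹ * (n * a * n⁻¹) := by rw [e]; group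
      rw [this]
      exact mul_mem (inv_mem hn1) hna
    have := (Subgroup.eq_bot_iff_forall _).1 goodE6.pos_inf_neg _ (Subgroup.mem_inf.2 ⟨h3, hn2⟩)
    exact conj_eq_one_iff.1 this
  rw [ha₂1, mul_one] at e
  have hirad : a ∈ chevE6.unipotentRadical L {(i : ℕ)} := by
    rw [e, goodE6.unipotentRadical_eq]
    refine goodE6.posSub_mono (S := {r | r ∉ goodE6.invSet n}) (T := goodE6.radSet {(i : ℕ)}) (fun r hr hr' => ⟨hr, fun hin => hr' ?_⟩) ha₁
    have hri : r = chevE6.simple i :=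
      goodE6.eq_simple_of_rc_support i.2 hr fun k hk => (goodE6.inRootSub_iff.1 hin).2 k hk
    subst hri
    refine (goodE6.mem_invSet (s := goodE6.simpleF i)).2 ⟨hr, ?_⟩
    exact Classical.not_not.1 fun h => hneg ((goodE6.isPosRoot_iff_not_neg (Fin.isLt _)).2 h)
  have hpi : (pOne j : GL chevE6.Idx L) ∈ chevE6.unipotentRadical L {(i : ℕ)} := by
    rw [show pOne j = u⁻¹ * a * u by simp only [a]; group]
    have hb : u⁻¹ ∈ chevE6.borelSubgroup L := inv_mem (Subgroup.mem_sup_left huU)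
    have hN := goodE6.parabolic_le_normalizer (F := L) (J := {(i : ℕ)})
    have hmem : u⁻¹ ∈ chevE6.parabolicSubgroup L {(i : ℕ)} := by
      rw [goodE6.posUnipotent_eq] at huU
      refine (Subgroup.closure_le _).2 ?_ (inv_mem huU)
      rintro x ⟨r, t, ⟨hr, -⟩, rfl⟩
      exact goodE6.xg_mem_parabolic (Or.inl hr) t
    simpa using (Subgroup.mem_normalizer_iff.1 (hN hmem) a).1 hirad
  exact one_ne_zero (coeff_eq_zero (fun _ => (1 : L)) (graphE6.orb j) (orb_nodup j) hj hpi)

/-- The longest element, as a product of the orbit elements. -/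
noncomputable def topElt : GL chevE6.Idx L := goodE6.nProd topWord

theorem topElt_eq : (topElt : GL chevE6.Idx L) = (graphE6.top.map fun j => graphE6.nPar goodE6 j fun _ => (1 : L)).prod := by
  rw [topElt, Good.nProd, topWord, List.map_flatMap, List.flatMap, List.prod_flatten, List.map_map]
  rfl

/-- An element commuting with all orbit elements is trivial. -/
theorem eq_one_of_commute {z : GL chevE6.Idx L} (hz : z ∈ chevE6.group L)
    (hp : ∀ j, z * pOne j = pOne j * z)
    (hn : ∀ j : Fin graphE6.m, z * graphE6.nPar goodE6 j (fun _ => (1 : L)) = graphE6.nPar goodE6 j (fun _ => 1) * z) :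
    z = 1 := by
  obtain ⟨v, hv, d, hd, rfl⟩ := goodE6.mem_borel.1 (mem_borel_of_commute hz hp)
  set n : GL chevE6.Idx L := topElt with hndef
  have hnN : n ∈ chevE6.monomialSubgroup L := goodE6.nProd_mem topWord
  have hcn : v * d * n = n * (v * d) := by
    rw [hndef, topElt_eq]
    refine Subgroup.mem_centralizer_singleton_iff.1 (Subgroup.list_prod_mem _ fun x hx => ?_) |>.symm
    obtain ⟨j, -, rfl⟩ := List.mem_map.1 hx
    exact Subgroup.mem_centralizer_singleton_iff.2 (hn j).symm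
  have hinv : ∀ r, chevE6.IsPosRoot r → r ∈ goodE6.invSet n := fun r hr => by
    refine (goodE6.mem_invSet (s := ⟨r, hr.1⟩)).2 ⟨hr, ?_⟩
    have := topWord_neg ⟨r, hr.1⟩ hr
    rw [hndef, topElt, goodE6.perm_nProd]
    exact this
  have hvi : v ∈ goodE6.posSub (goodE6.invSet n) := by
    rw [goodE6.posUnipotent_eq] at hv
    exact goodE6.posSub_mono (fun r hr _ => hinv r hr) hv
  have hvneg : n * v * n⁻¹ ∈ chevE6.negUnipotent L := goodE6.conj_posSub_invSet hnN hvi
  have hd' := goodE6.diagonal_normalized hnN hd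
  have hvB : n * v * n⁻¹ ∈ chevE6.borelSubgroup L := by
    have e : n * v * n⁻¹ = v * (d * (n * d * n⁻¹)⁻¹) := by
      calc n * v * n⁻¹ = n * (v * d) * d⁻¹ * n⁻¹ := by group
        _ = v * d * n * d⁻¹ * n⁻¹ := by rw [← hcn]
        _ = _ := by group
    rw [e]
    exact mul_mem (Subgroup.mem_sup_left hv) (Subgroup.mem_sup_right (mul_mem hd (inv_mem hd')))
  have hv1 : v = 1 :=
    conj_eq_one_iff.1 ((Subgroup.eq_bot_iff_forall _).1 goodE6.borel_inf_neg _ (Subgroup.mem_inf.2 ⟨hvB, hvneg⟩))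
  subst hv1
  rw [one_mul] at hp ⊢
  obtain ⟨w, rfl⟩ := goodE6.mem_diagonal.1 hd
  refine Cfsg.Agent.H47.CenterCard.torus_eq_one_of_simple goodE6 w fun i => ?_
  obtain ⟨j, hj⟩ := cover_orb i
  have e : graphE6.pX goodE6 j (fun k => (goodE6.torusVal w (chevE6.simple k) : L)) = pOne j := by
    rw [show pOne j = goodE6.torus w * pOne j * (goodE6.torus w)⁻¹ by rw [hp j, mul_inv_cancel_right]]
    simp only [pOne, GraphData.pX, GraphData.orbProd]
    rw [show ∀ (x : GL chevE6.Idx L) (l : List (GL chevE6.Idx L)), x * l.prod * x⁻¹ = (l.map fun y => x * y * x⁻¹).prod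
      from fun x l => by rw [← MulAut.conj_apply, map_list_prod]; rfl, List.map_map]
    congr 1
    refine List.map_congr_left fun k _ => ?_
    rw [Function.comp_apply, goodE6.torus_conj_xg w (goodE6.simple_lt k.2), mul_one]
  exact Units.ext (graphE6.orbProd_inj okE6 e i hj)

end Centralizer

section Main

open Cfsg.Agent.H64.TwinE6 (td0 g1Equiv)

variable {F K : Type*} [Field F] [Field K] (f : F →+* K)

theorem mapGL_orbProd (j : Fin graphE6.m) (r : Fin chevE6.rank → ℕ) (c : Fin chevE6.rank → F) :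
    mapGL chevE6 f (graphE6.orbProd j fun k => goodE6.xg (r k) (c k)) =
      graphE6.orbProd j fun k => goodE6.xg (r k) (f (c k)) := by
  simp only [GraphData.orbProd, map_list_prod, List.map_map]
  congr 1
  exact List.map_congr_left fun k _ => mapGL_xg goodE6 f _ _

theorem mapGL_nPar (j : Fin graphE6.m) :
    mapGL chevE6 f (graphE6.nPar goodE6 j fun _ => (1 : F)) = graphE6.nPar goodE6 j fun _ => (1 : K) := by
  simp only [GraphData.nPar, GraphData.orbProd, map_list_prod, List.map_map]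
  congr 1
  exact List.map_congr_left fun k _ => by rw [Function.comp_apply, mapGL_ng goodE6, map_one]

/-- The fixed group of the graph automorphism, over the prime field. -/
noncomputable def H0 [CharP K 2] : Subgroup (GL chevE6.Idx K) :=
  ((td0 (F := ZMod 2)).G1).map (mapGL chevE6 (ZMod.castHom (dvd_refl 2) K))

theorem pOne_mem_H0 [CharP K 2] (j : Fin graphE6.m) : (pOne j : GL chevE6.Idx K) ∈ H0 := by
  refine ⟨graphE6.pX goodE6 j fun _ => 1, ?_, ?_⟩
  · show _ ∈ (td0 (F := ZMod 2)).G1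
    rw [td0, graphE6.G1_eq_closure okE6 coxE6]
    exact Subgroup.subset_closure ⟨j, _, fun _ _ => rfl, Or.inl rfl⟩
  · rw [GraphData.pX, mapGL_orbProd]
    simp only [map_one]
    rfl

theorem nPar_mem_H0 [CharP K 2] (j : Fin graphE6.m) :
    graphE6.nPar goodE6 j (fun _ => (1 : K)) ∈ H0 := by
  refine ⟨graphE6.nPar goodE6 j fun _ => 1, ?_, mapGL_nPar _ j⟩
  show _ ∈ (td0 (F := ZMod 2)).G1
  rw [td0, graphE6.G1_eq_closure okE6 coxE6]
  exact graphE6.nPar_mem_closure okE6 _ j fun _ _ => (map_one _).symm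

theorem ζ_cube {ω : Kˣ} (hω : orderOf ω = 3) : ω ^ 3 = 1 := by rw [← hω, pow_orderOf_eq_one]

/-- The values of the outer diagonal element at the fundamental roots. -/
def cVec (ω : Kˣ) : Fin chevE6.rank → Kˣ := fun i => ω ^ ([1, 0, 0, 0, 0, 2] : List ℕ).getD i.val 0

/-- The outer diagonal element. -/
def delta (ω : Kˣ) : GL chevE6.Idx K := diagUnit (D := chevE6) (charOf goodE6 (cVec ω))

theorem delta_conj (ω : Kˣ) {r : ℕ} (hr : r < chevE6.nroots) (t : K) :
    delta ω * goodE6.xg r t * (delta ω)⁻¹ = goodE6.xg r ((charOf goodE6 (cVec ω) r : K) * t) :=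
  diagUnit_conj_xg goodE6 (Cfsg.Agent.H64.Chev.chkDec_of_mem (by simp)) _ (isRootCharacter_charOf goodE6 _) hr t

theorem delta_conj_group (ω : Kˣ) {g : GL chevE6.Idx K} (hg : g ∈ chevE6.group K) :
    delta ω * g * (delta ω)⁻¹ ∈ chevE6.group K := by
  have e := cj_diagUnit_group goodE6 (F := K) (Cfsg.Agent.H64.Chev.chkDec_of_mem (by simp)) _
    (isRootCharacter_charOf goodE6 (cVec ω))
  rw [← e]
  exact ⟨g, hg, rfl⟩

theorem delta_pow_conj (ω : Kˣ) : ∀ (i : ℕ) {g : GL chevE6.Idx K}, g ∈ chevE6.group K →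
    delta ω ^ i * g * (delta ω ^ i)⁻¹ ∈ chevE6.group K
  | 0, g, hg => by simpa using hg
  | i + 1, g, hg => by
    have e : delta ω ^ (i + 1) * g * (delta ω ^ (i + 1))⁻¹ =
        delta ω * (delta ω ^ i * g * (delta ω ^ i)⁻¹) * (delta ω)⁻¹ := by rw [pow_succ']; group
    rw [e]
    exact delta_conj_group ω (delta_pow_conj ω i hg)

theorem delta_cube {ω : Kˣ} (hω : ω ^ 3 = 1) : delta ω ^ 3 = 1 := by
  refine Units.ext ?_
  rw [Units.val_pow_eq_pow_val, Units.val_one]
  show (chevE6.charDiag K (charOf goodE6 (cVec ω))) ^ 3 = 1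
  rw [ChevalleyDatum.charDiag, Matrix.diagonal_pow, ← Matrix.diagonal_one]
  congr 1
  funext x
  rcases x with i | r
  · simp
  · simp only [Pi.pow_apply, Sum.elim_inr, ← Units.val_pow_eq_pow_val, charOf, ← Finset.prod_pow]
    refine (congrArg Units.val (Finset.prod_eq_one fun i _ => ?_)).trans Units.val_one
    rw [cVec, ← zpow_natCast, ← zpow_mul, ← zpow_natCast ω, ← zpow_mul]
    rw [show (([1, 0, 0, 0, 0, 2] : List ℕ).getD i.val 0 : ℤ) * (goodE6.rc r.val i * (3 : ℕ)) =
      (3 : ℕ) * ((([1, 0, 0, 0, 0, 2] : List ℕ).getD i.val 0 : ℤ) * goodE6.rc r.val i) by ring, zpow_mul,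
      zpow_natCast, hω, one_zpow]

/-- Exponents of a torus element over an extension giving the outer diagonal element. -/
def aVec : List ℤ := [8, 9, 13, 18, 14, 10]

theorem aVec_spec : ∀ j : Fin chevE6.rank, ∑ k : Fin chevE6.rank, aVec.getD k 0 * chevE6.cartan k (chevE6.simple j) =
    3 * (([1, 0, 0, 0, 0, 2] : List ℕ).getD j.val 0 : ℤ) := by decide +kernel

theorem delta_torus {M : Type*} [Field M] (g : K →+* M) (ω : Kˣ) (η : Mˣ) (h : Units.map g.toMonoidHom ω = η ^ 3) :
    mapGL chevE6 g (delta ω) = goodE6.torus fun k : Fin chevE6.rank => η ^ aVec.getD k 0 := by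
  set w : Fin chevE6.rank → Mˣ := fun k => η ^ aVec.getD k 0
  have hs : ∀ j : Fin chevE6.rank, goodE6.torusVal w (chevE6.simple j) = Units.map g.toMonoidHom (cVec ω j) := by
    intro j
    rw [cVec, map_pow, h, ← pow_mul, Good.torusVal]
    simp only [w, ← zpow_mul]
    rw [Cfsg.Agent.H23.RegularTorus.prod_zpow_sum, ← zpow_natCast η, Nat.cast_mul,
      Finset.sum_congr rfl fun k _ => by rw [← goodE6.cartan_eq (goodE6.simple_lt j.2) k.2], aVec_spec j]
    rfl
  apply Units.ext
  rw [coe_mapGL, goodE6.coe_torus]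
  show (chevE6.charDiag K (charOf goodE6 (cVec ω))).map g = _
  rw [ChevalleyDatum.charDiag, rdiag, Matrix.diagonal_map (map_zero g)]
  congr 1
  funext x
  rcases x with i | s
  · simp
  · simp only [Sum.elim_inr]
    rw [Cfsg.Agent.H23.RegularTorus.torusVal_eq_prod goodE6 w s.val, charOf]
    rw [show g ((∏ i, cVec ω i ^ goodE6.rc s.val i : Kˣ) : K) =
      ((Units.map g.toMonoidHom (∏ i, cVec ω i ^ goodE6.rc s.val i) : Mˣ) : M) from rfl, map_prod]
    simp only [map_zpow, hs]

/-- The outer diagonal element does not lie in the Chevalley group. -/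
theorem delta_not_mem {M : Type*} [Field M] (g : K →+* M) {ω : Kˣ} (hK : ∀ x : Kˣ, x ^ 3 = 1) (hω : orderOf ω = 3)
    (η : Mˣ) (h : Units.map g.toMonoidHom ω = η ^ 3) : delta ω ∉ chevE6.group K := by
  intro hmem
  obtain ⟨W, v, d, u, hv, hd, hu, e⟩ := Chev.exists_standard_form goodE6 hmem
  have eM := congrArg (mapGL chevE6 g) e
  simp only [map_mul, mapGL_nProd goodE6, delta_torus g ω η h] at eM
  set w : Fin chevE6.rank → Mˣ := fun k => η ^ aVec.getD k 0
  set n : GL chevE6.Idx M := goodE6.nProd W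
  have hn : n ∈ chevE6.monomialSubgroup M := goodE6.nProd_mem W
  have hu' : mapGL chevE6 g u ∈ goodE6.posSub (goodE6.invSet n) := by
    have : goodE6.invSet n = goodE6.invSet (goodE6.nProd W : GL chevE6.Idx K) := by
      simp only [Good.invSet, n, goodE6.perm_nProd]
    rw [this]
    exact mapGL_posSub goodE6 g hu
  have hv' : mapGL chevE6 g v ∈ chevE6.posUnipotent M := mapGL_pos goodE6 g hv
  have hd' : mapGL chevE6 g d ∈ chevE6.diagonalSubgroup M := mapGL_diagonal goodE6 g hd
  have hw : goodE6.torus w ∈ chevE6.borelSubgroup M := Subgroup.mem_sup_right (goodE6.mem_diagonal.2 ⟨w, rfl⟩)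
  have hempty : (1 : GL chevE6.Idx M) ∈ goodE6.posSub (goodE6.invSet (1 : GL chevE6.Idx M)) := one_mem _
  obtain ⟨hnd, hu1, hb⟩ := goodE6.bruhat_unique (mul_mem (Subgroup.mem_sup_left hv') (Subgroup.mem_sup_right hd')) hw
    hn (one_mem _) hu' hempty (by rw [mul_one, mul_one]; exact eM.symm)
  have hperm : goodE6.perm n = 1 := by
    have := goodE6.perm_diagonal hnd
    rwa [mul_one, goodE6.perm_inv hn, inv_eq_one] at this
  have hnK : (goodE6.nProd W : GL chevE6.Idx K) ∈ chevE6.diagonalSubgroup K :=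
    (goodE6.perm_eq_one_iff (goodE6.nProd_mem W)).1 (by
      rw [goodE6.perm_nProd, ← goodE6.perm_nProd (F := M)]; exact hperm)
  obtain ⟨y, hy⟩ := goodE6.mem_diagonal.1 (mul_mem hd hnK)
  have hu0 : u = 1 := mapGL_injective g (hu1.trans (map_one _).symm)
  have hvd : mapGL chevE6 g v ∈ chevE6.diagonalSubgroup M := by
    have e1 : mapGL chevE6 g v = goodE6.torus w * (mapGL chevE6 g d * n)⁻¹ := by
      rw [eM, hu0, map_one, mul_one]; group
    rw [e1]
    exact mul_mem (goodE6.mem_diagonal.2 ⟨w, rfl⟩)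
      (inv_mem (mul_mem hd' ((goodE6.perm_eq_one_iff hn).1 hperm)))
  have hv0 : v = 1 := mapGL_injective g (((Subgroup.eq_bot_iff_forall _).1 goodE6.posUnipotent_inf_diagonal _
    (Subgroup.mem_inf.2 ⟨hv', hvd⟩)).trans (map_one _).symm)
  rw [hu0, hv0, one_mul, mul_one, hy] at e
  have eT : goodE6.torus w = goodE6.torus fun k => Units.map g.toMonoidHom (y k) := by
    rw [← delta_torus g ω η h, e, mapGL_torus goodE6]
  set y' : Fin chevE6.rank → Mˣ := fun k => Units.map g.toMonoidHom (y k)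
  have hker : goodE6.torus (w * y'⁻¹) = 1 := by rw [map_mul, map_inv, eT, mul_inv_cancel]
  have h3 := congrArg (act (getM Cfsg.Agent.H64.TwinE6.invCartE6)) ((goodE6.mem_ker_torus _).1 hker)
  rw [act_act, act_map_one,
    show (fun i j : Fin chevE6.rank => ∑ k, getM Cfsg.Agent.H64.TwinE6.invCartE6 i k * cartT chevE6 goodE6.tab k j) =
      fun i j => if i = j then 3 else 0 from funext fun i => funext fun j => Cfsg.Agent.H64.TwinE6.invCartE6_spec i j,
    act_diag] at h3
  have h4 := congrFun h3 ⟨0, by decide⟩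
  simp only [Pi.mul_apply, Pi.inv_apply, Pi.one_apply, w, y', aVec, List.getD_cons_zero, mul_zpow, inv_zpow',
    ← map_zpow] at h4
  rw [zpow_neg, show y ⟨0, by decide⟩ ^ (3 : ℤ) = 1 by exact_mod_cast hK _, inv_one, map_one, mul_one,
    ← zpow_mul] at h4
  have h8 : (Units.map g.toMonoidHom ω) ^ 8 = 1 := by rw [h, ← pow_mul, ← zpow_natCast]; exact h4
  rw [← map_pow] at h8
  have h9 : ω ^ 8 = 1 := Units.map_injective g.injective (h8.trans (map_one _).symm)
  have := orderOf_dvd_of_pow_eq_one h9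
  rw [hω] at this
  omega

theorem mapGL_frob_delta [CharP K 2] (ω : Kˣ) : mapGL chevE6 (frobenius K 2) (delta ω) = delta ω ^ 2 := by
  refine Units.ext ?_
  rw [coe_mapGL, Units.val_pow_eq_pow_val]
  show (chevE6.charDiag K (charOf goodE6 (cVec ω))).map (frobenius K 2) =
    (chevE6.charDiag K (charOf goodE6 (cVec ω))) ^ 2
  rw [ChevalleyDatum.charDiag, Matrix.diagonal_map (map_zero _), Matrix.diagonal_pow]
  congr 1

theorem cVec_rho {ω : Kˣ} (hω : ω ^ 3 = 1) : ∀ k : Fin chevE6.rank, cVec ω (graphE6.ρF k) = cVec ω k ^ 2 := by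
  have h : ∀ k : Fin chevE6.rank,
      ([1, 0, 0, 0, 0, 2] : List ℕ).getD (graphE6.ρF k).val 0 % 3 =
        ([1, 0, 0, 0, 0, 2] : List ℕ).getD k.val 0 * 2 % 3 := by decide +kernel
  intro k
  rw [cVec, cVec, ← pow_mul]
  exact (pow_eq_pow_mod _ hω).trans ((congrArg (ω ^ ·) (h k)).trans (pow_eq_pow_mod _ hω).symm)

/-- Three pairwise non-conjugate subgroups isomorphic to `F₄(2)`. -/
theorem exists_three (K : Type*) [Field K] [Fintype K] (hK : Fintype.card K = 4) :
    ∃ H : Fin 3 → Subgroup (Cfsg.Lie.twistedE6 K 2),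
      (∀ i, Nonempty ((H i) ≃* Cfsg.Lie.chevF4.group (ZMod 2))) ∧
      (∀ i j, i ≠ j → ∀ g : (Cfsg.Lie.twistedE6 K 2), (H i).map (MulAut.conj g).toMonoidHom ≠ H j) := by
  classical
  have hchar : CharP K 2 := by
    obtain ⟨p, hp⟩ := CharP.exists K
    obtain ⟨a, hpp, ha⟩ := FiniteField.card K p
    have h2 : p ∣ 2 := hpp.dvd_of_dvd_pow (n := 2) (by
      rw [show (2 : ℕ) ^ 2 = p ^ (a : ℕ) from hK.symm.trans ha]
      exact dvd_pow_self p a.ne_zero)
    obtain rfl := (Nat.prime_dvd_prime_iff_eq hpp Nat.prime_two).1 h2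
    exact hp
  set σ : K →+* K := frobenius K 2 with hσdef
  have hσ : ∀ x, σ x = x ^ 2 := fun x => frobenius_def 2 x
  have hunits : Nat.card Kˣ = 3 := by rw [Nat.card_eq_fintype_card, Fintype.card_units, hK]
  have hK3 : ∀ x : Kˣ, x ^ 3 = 1 := fun x => by rw [← hunits]; exact pow_card_eq_one'
  obtain ⟨ω, hω'⟩ := IsCyclic.exists_generator (α := Kˣ)
  have hω : orderOf ω = 3 := (orderOf_eq_card_of_forall_mem_zpowers hω').trans hunits
  have hG1 : twistedE6 K 2 = (tdE6 σ).G1 := twistedE6_eq σ hσ (by rw [hK]; rfl)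
  have hgen : (twistedE6 K 2 : Subgroup (GL chevE6.Idx K)) = Subgroup.closure (graphE6.genSet goodE6 σ) := by
    rw [hG1, tdE6, graphE6.G1_eq_closure okE6 coxE6 σ]
  have hle : (twistedE6 K 2 : Subgroup (GL chevE6.Idx K)) ≤ chevE6.group K := by
    rw [hgen]
    refine (Subgroup.closure_le _).2 ?_
    rintro g ⟨j, c, -, rfl | rfl⟩ <;> refine Subgroup.list_prod_mem _ fun x hx => ?_ <;>
      obtain ⟨k, -, rfl⟩ := List.mem_map.1 hx <;> exact goodE6.xg_mem_group _ _
  set f := ZMod.castHom (dvd_refl 2) K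
  have hσf : ∀ x : ZMod 2, σ (f x) = f x := fun x => by
    rw [hσ, ← map_pow]
    congr 1
    revert x
    decide
  have hH0 : (H0 : Subgroup (GL chevE6.Idx K)) ≤ twistedE6 K 2 := by
    rw [H0, td0, graphE6.G1_eq_closure okE6 coxE6, MonoidHom.map_closure, hgen]
    refine (Subgroup.closure_le _).2 ?_
    rintro _ ⟨g, ⟨j, c, hc, rfl | rfl⟩, rfl⟩
    · refine Subgroup.subset_closure ⟨j, fun k => f (c k), fun k hk => ?_, Or.inl (mapGL_orbProd f j _ c)⟩
      show f (c _) = σ (f (c k))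
      rw [hσf, hc k hk]; rfl
    · refine Subgroup.subset_closure ⟨j, fun k => f (c k), fun k hk => ?_, Or.inr (mapGL_orbProd f j _ c)⟩
      show f (c _) = σ (f (c k))
      rw [hσf, hc k hk]; rfl
  have hfix : ∀ h ∈ (H0 : Subgroup (GL chevE6.Idx K)), mapGL chevE6 σ h = h := by
    rintro _ ⟨g, -, rfl⟩
    exact Units.ext (Matrix.ext fun a b => hσf _)
  have hδ1 : ∀ g ∈ (twistedE6 K 2 : Subgroup (GL chevE6.Idx K)), delta ω * g * (delta ω)⁻¹ ∈ twistedE6 K 2 := by
    intro g hg
    rw [hgen] at hg ⊢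
    refine (Subgroup.closure_le ((Subgroup.closure (graphE6.genSet goodE6 σ)).comap
      (MulAut.conj (delta ω)).toMonoidHom)).2 ?_ hg
    have hconj : ∀ (j : Fin graphE6.m) (r : Fin chevE6.rank → ℕ) (c : Fin chevE6.rank → K),
        (∀ k, r k < chevE6.nroots) →
        delta ω * (graphE6.orbProd j fun k => goodE6.xg (r k) (c k)) * (delta ω)⁻¹ =
          graphE6.orbProd j fun k => goodE6.xg (r k) ((charOf goodE6 (cVec ω) (r k) : K) * c k) := by
      intro j r c hr
      simp only [GraphData.orbProd]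
      rw [← MulAut.conj_apply, map_list_prod, List.map_map]
      congr 1
      exact List.map_congr_left fun k _ => by rw [Function.comp_apply, MulAut.conj_apply, delta_conj ω (hr k)]
    rintro g ⟨j, c, hc, rfl | rfl⟩
    · refine Subgroup.subset_closure ⟨j, fun k => (cVec ω k : K) * c k, fun k hk => ?_, Or.inl ?_⟩
      · show (cVec ω _ : K) * c _ = σ ((cVec ω k : K) * c k)
        rw [map_mul, ← hc k hk, hσ, cVec_rho (hK3 ω), Units.val_pow_eq_pow_val]
      · refine (hconj j _ c fun k => goodE6.simple_lt k.2).trans ?_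
        simp only [charOf_simple]
        rfl
    · refine Subgroup.subset_closure ⟨j, fun k => ((cVec ω k)⁻¹ : Kˣ) * c k, fun k hk => ?_, Or.inr ?_⟩
      · show ((cVec ω _)⁻¹ : Kˣ) * c _ = σ (((cVec ω k)⁻¹ : Kˣ) * c k)
        rw [map_mul, ← hc k hk, hσ, cVec_rho (hK3 ω), ← Units.val_pow_eq_pow_val, inv_pow]
      · refine (hconj j _ c fun k => goodE6.neg_lt (goodE6.simple_lt k.2)).trans ?_
        simp only [Cfsg.Agent.H64.AutChev.charOf_neg goodE6 _ (goodE6.simple_lt (Fin.isLt _)), charOf_simple]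
        rfl
  have hδi : ∀ (i : ℕ), ∀ g ∈ (twistedE6 K 2 : Subgroup (GL chevE6.Idx K)),
      delta ω ^ i * g * (delta ω ^ i)⁻¹ ∈ twistedE6 K 2 := by
    intro i
    induction i with
    | zero => intro g hg; simpa using hg
    | succ i ih =>
      intro g hg
      have e : delta ω ^ (i + 1) * g * (delta ω ^ (i + 1))⁻¹ =
          delta ω * (delta ω ^ i * g * (delta ω ^ i)⁻¹) * (delta ω)⁻¹ := by rw [pow_succ']; group
      rw [e]
      exact hδ1 _ (ih g hg)
  have hHi : ∀ i : Fin 3, (H0 : Subgroup (GL chevE6.Idx K)).map (MulAut.conj (delta ω ^ (i : ℕ))).toMonoidHom ≤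
      twistedE6 K 2 := by
    rintro i _ ⟨h, hh, rfl⟩
    exact hδi i h (hH0 hh)
  refine ⟨fun i => ((H0 : Subgroup (GL chevE6.Idx K)).map (MulAut.conj (delta ω ^ (i : ℕ))).toMonoidHom).subgroupOf
    (twistedE6 K 2), fun i => ?_, ?_⟩
  · exact ⟨(Subgroup.subgroupOfEquivOfLe (hHi i)).trans
      ((Subgroup.equivMapOfInjective _ _ (MulEquiv.injective _)).symm.trans
        ((Subgroup.equivMapOfInjective _ _ (mapGL_injective f)).symm.trans g1Equiv))⟩
  intro i j hij g hmap
  set δ := delta ω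
  set y : GL chevE6.Idx K := (δ ^ (j : ℕ))⁻¹ * (g : GL chevE6.Idx K) * δ ^ (i : ℕ)
  have hyH : ∀ h ∈ (H0 : Subgroup (GL chevE6.Idx K)), y * h * y⁻¹ ∈ H0 := by
    intro h hh
    have hm : (MulAut.conj g) ⟨_, hHi i ⟨h, hh, rfl⟩⟩ ∈
        ((H0 : Subgroup (GL chevE6.Idx K)).map (MulAut.conj (δ ^ (j : ℕ))).toMonoidHom).subgroupOf
          (twistedE6 K 2) := by
      have h0 : (⟨_, hHi i ⟨h, hh, rfl⟩⟩ : twistedE6 K 2) ∈
          ((H0 : Subgroup (GL chevE6.Idx K)).map (MulAut.conj (δ ^ (i : ℕ))).toMonoidHom).subgroupOf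
            (twistedE6 K 2) := ⟨h, hh, rfl⟩
      have h1 := Subgroup.mem_map_of_mem (MulAut.conj g).toMonoidHom h0
      simp only at hmap
      rw [hmap] at h1
      exact h1
    obtain ⟨h', hh', e⟩ := hm
    simp only [MulEquiv.coe_toMonoidHom, MulAut.conj_apply, Subgroup.subtype_apply, Subgroup.coe_mul,
      Subgroup.coe_inv] at e
    have : y * h * y⁻¹ = h' := by
      calc y * h * y⁻¹ = (δ ^ (j : ℕ))⁻¹ * ((g : GL chevE6.Idx K) * (δ ^ (i : ℕ) * h * (δ ^ (i : ℕ))⁻¹) *
            (g : GL chevE6.Idx K)⁻¹) * δ ^ (j : ℕ) := by simp only [y]; group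
        _ = _ := by rw [← e]; group
    rw [this]
    exact hh'
  set z := y⁻¹ * mapGL chevE6 σ y with hzdef
  have hzc : ∀ h ∈ (H0 : Subgroup (GL chevE6.Idx K)), z * h = h * z := by
    intro h hh
    have e := hfix _ (hyH h hh)
    rw [map_mul, map_mul, map_inv, hfix h hh] at e
    calc z * h = y⁻¹ * (mapGL chevE6 σ y * h * (mapGL chevE6 σ y)⁻¹) * mapGL chevE6 σ y := by
          rw [hzdef]; group
      _ = _ := by rw [e, hzdef]; group
  -- pass to a field where the outer diagonal element is in the torus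
  let M := AlgebraicClosure K
  let ι := algebraMap K M
  obtain ⟨η₀, hη₀⟩ := IsAlgClosed.exists_pow_nat_eq (ι (ω : K)) (n := 3) (by norm_num)
  have hη0 : η₀ ≠ 0 := fun e => by
    rw [e, zero_pow (by norm_num)] at hη₀
    exact (ω.map (ι : K →* M)).ne_zero hη₀.symm
  have hη : Units.map ι.toMonoidHom ω = Units.mk0 η₀ hη0 ^ 3 := Units.ext (by simpa using hη₀.symm)
  have hδM : mapGL chevE6 ι δ ∈ chevE6.group M := by
    rw [delta_torus ι ω _ hη]
    exact goodE6.diagonal_le_group (goodE6.mem_diagonal.2 ⟨_, rfl⟩)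
  have hyM : mapGL chevE6 ι y ∈ chevE6.group M := by
    simp only [y, map_mul, map_inv, map_pow]
    exact mul_mem (mul_mem (inv_mem (pow_mem hδM _)) (mapGL_mem_group ι (hle g.2))) (pow_mem hδM _)
  have hσδ : mapGL chevE6 σ δ = δ ^ 2 := mapGL_frob_delta ω
  have hσyM : mapGL chevE6 ι (mapGL chevE6 σ y) ∈ chevE6.group M := by
    simp only [y, map_mul, map_inv, map_pow, hσδ]
    exact mul_mem (mul_mem (inv_mem (pow_mem (pow_mem hδM _) _)) (mapGL_mem_group ι (mapGL_mem_group σ (hle g.2))))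
      (pow_mem (pow_mem hδM _) _)
  have hz1 : z = 1 := by
    refine mapGL_injective ι ((eq_one_of_commute ?_ (fun k => ?_) (fun k => ?_)).trans (map_one _).symm)
    · rw [hzdef, map_mul, map_inv]; exact mul_mem (inv_mem hyM) hσyM
    · have e := congrArg (mapGL chevE6 ι) (hzc _ (pOne_mem_H0 k))
      simp only [map_mul, pOne, GraphData.pX, mapGL_orbProd, map_one] at e ⊢
      exact e
    · have e := congrArg (mapGL chevE6 ι) (hzc _ (nPar_mem_H0 k))
      simp only [map_mul, mapGL_nPar] at e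
      exact e
  rw [hzdef, inv_mul_eq_one] at hz1
  simp only [y, map_mul, map_inv, map_pow, hσδ] at hz1
  -- now `δ ^ (j - i)` lies in the Chevalley group
  have hd3 : δ ^ 3 = 1 := delta_cube (hK3 ω)
  have hmem : δ ^ ((j : ℕ) + 2 * (i : ℕ)) ∈ chevE6.group K := by
    have e : mapGL chevE6 σ (g : GL chevE6.Idx K) =
        δ ^ ((j : ℕ) + 2 * (i : ℕ)) * ((δ ^ (i : ℕ)) ^ 4 * (g : GL chevE6.Idx K) * ((δ ^ (i : ℕ)) ^ 4)⁻¹) := by
      have h3 : (δ ^ (i : ℕ)) ^ 3 = 1 := by rw [← pow_mul, mul_comm, pow_mul, hd3, one_pow]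
      have h4 : (δ ^ (i : ℕ)) ^ 4 = δ ^ (i : ℕ) := by rw [pow_succ, h3, one_mul]
      calc mapGL chevE6 σ (g : GL chevE6.Idx K)
          = (δ ^ 2) ^ (j : ℕ) * ((δ ^ (j : ℕ))⁻¹ * (g : GL chevE6.Idx K) * δ ^ (i : ℕ)) *
              ((δ ^ 2) ^ (i : ℕ))⁻¹ := by rw [hz1]; group
        _ = δ ^ (j : ℕ) * (g : GL chevE6.Idx K) * (δ ^ (i : ℕ))⁻¹ := by group
        _ = δ ^ (j : ℕ) * (δ ^ (i : ℕ)) ^ 3 * (g : GL chevE6.Idx K) * (δ ^ (i : ℕ))⁻¹ := by rw [h3, mul_one]
        _ = _ := by rw [h4]; group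
    have h2 : ((δ ^ (i : ℕ)) ^ 4 * (g : GL chevE6.Idx K) * ((δ ^ (i : ℕ)) ^ 4)⁻¹) ∈ chevE6.group K := by
      rw [← pow_mul]; exact delta_pow_conj ω _ (hle g.2)
    have h3 := mapGL_mem_group σ (hle g.2)
    rw [e] at h3
    exact (Subgroup.mul_mem_cancel_right _ h2).1 h3
  have hne : ((j : ℕ) + 2 * (i : ℕ)) % 3 ≠ 0 := by
    intro h
    exact hij (Fin.ext (by omega))
  rw [pow_eq_pow_mod _ hd3] at hmem
  refine delta_not_mem ι hK3 hω _ hη ?_
  obtain h | h : ((j : ℕ) + 2 * (i : ℕ)) % 3 = 1 ∨ ((j : ℕ) + 2 * (i : ℕ)) % 3 = 2 := by omega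
  · rwa [h, pow_one] at hmem
  · rw [h] at hmem
    have e : δ = (δ ^ 2)⁻¹ := eq_inv_of_mul_eq_one_left (by rw [← pow_succ']; exact hd3)
    show δ ∈ _
    rw [e]
    exact inv_mem hmem

end Main

end Cfsg.Agent.H67.ThreeF4
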