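import Mathlib

set_option autoImplicit false

/-!
# Lang's theorem for groups generated by polynomial one-parameter subgroups

Let `K` be algebraically closed, `Γ ≤ GL n K` generated by additive one-parameter subgroups with polynomial
entries, and `σ` the `q`-th power map, preserving the set of generators.  The entry functions on `Γ` generate a
domain `A`, whose `K`-points all come from `Γ`; the map `g ↦ g⁻¹ σ g` induces an integral, hence injective,
endomorphism of `A`, so every point lifts.
-/

namespace Cfsg.Agent.H67.AlgLang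

open MvPolynomial

variable {K : Type*} [Field K]

section Algebraic

variable {A : Type*} [CommRing A] [IsDomain A] [Algebra K A]

/-- An integral endomorphism of a domain of finite transcendence degree is injective. -/
theorem injective_of_integral (htr : Algebra.trdeg K A < Cardinal.aleph0) (φ : A →ₐ[K] A)
    (hint : Algebra.IsIntegral φ.range A) : Function.Injective φ := by
  classical
  have hK : Function.Injective (algebraMap K A) := (algebraMap K A).injective
  have : FaithfulSMul K A := (faithfulSMul_iff_algebraMap_injective K A).2 hK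
  have hrange : Algebra.adjoin K (φ.range : Set A) = φ.range := Algebra.adjoin_eq φ.range
  have halg : Algebra.IsAlgebraic (Algebra.adjoin K (φ.range : Set A)) A := by
    rw [hrange]
    exact ⟨fun a => (hint.isIntegral a).isAlgebraic⟩
  obtain ⟨s, hs, hbase⟩ := exists_isTranscendenceBasis_subset (R := K) (φ.range : Set A)
  choose pre hpre using fun a : s => hs a.2
  have hind : AlgebraicIndependent K (fun a : s => φ (pre a)) := by
    have e : (fun a : s => φ (pre a)) = fun a : s => (a : A) := funext hpre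
    rw [e]; exact hbase.1
  have hind' : AlgebraicIndependent K pre := AlgebraicIndependent.of_comp φ hind
  have hb' : IsTranscendenceBasis K pre :=
    hind'.isTranscendenceBasis_of_trdeg_le htr hbase.cardinalMk_eq_trdeg.ge
  rw [injective_iff_map_eq_zero]
  intro f hf
  by_contra hne
  obtain ⟨c, hc, hdvd⟩ := IsAlgebraic.exists_nonzero_dvd (hb'.isAlgebraic.1 f)
    (mem_nonZeroDivisors_of_ne_zero hne)
  have hc0 : φ (c : A) = 0 := by
    obtain ⟨w, hw⟩ := hdvd
    show φ (algebraMap _ A c) = 0
    rw [hw, map_mul, hf, zero_mul]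
  have hcmem : (c : A) ∈ (MvPolynomial.aeval (R := K) pre).range := by
    rw [← Algebra.adjoin_range_eq_range_aeval]; exact c.2
  obtain ⟨p, hp⟩ := hcmem
  have e : MvPolynomial.aeval (fun a : s => φ (pre a)) p = φ (c : A) := by
    rw [← (show MvPolynomial.aeval pre p = (c : A) from hp), ← AlgHom.comp_apply, MvPolynomial.comp_aeval]
  rw [hc0] at e
  have hp0 : p = 0 := (algebraicIndependent_iff_injective_aeval.1 hind) (by rw [e, map_zero])
  apply hc
  apply Subtype.ext
  rw [← hp, hp0]
  simp

/-- Points extend along integral extensions. -/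
theorem exists_point_extends [IsAlgClosed K] {S B : Type*} [CommRing S] [CommRing B] [Algebra K S] [Algebra K B]
    [Algebra S B] [IsScalarTower K S B] (hinjS : Function.Injective (algebraMap S B))
    (hint : Algebra.IsIntegral S B) (ε : S →ₐ[K] K) :
    ∃ ψ : B →ₐ[K] K, ∀ s : S, ψ (algebraMap S B s) = ε s := by
  have hsur : Function.Surjective ε := fun k => ⟨algebraMap K S k, ε.commutes k⟩
  have : (RingHom.ker ε).IsMaximal := RingHom.ker_isMaximal_of_surjective ε hsur
  obtain ⟨Q, hQmax, hQ⟩ := Ideal.exists_ideal_over_maximal_of_isIntegral (R := S) (S := B) (RingHom.ker ε)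
    (by
      rw [(RingHom.injective_iff_ker_eq_bot (algebraMap S B)).1 hinjS]
      exact bot_le)
  let _ : Field (B ⧸ Q) := Ideal.Quotient.field Q
  have halg : Algebra.IsIntegral K (B ⧸ Q) := by
    refine ⟨fun x => ?_⟩
    obtain ⟨b, rfl⟩ := Ideal.Quotient.mk_surjective x
    obtain ⟨p, hp, hpb⟩ := hint.isIntegral b
    refine ⟨p.map (ε : S →+* K), hp.map _, ?_⟩
    rw [Polynomial.eval₂_map]
    have e : (algebraMap K (B ⧸ Q)).comp (ε : S →+* K) = (Ideal.Quotient.mk Q).comp (algebraMap S B) := by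
      ext s
      have hs : s - algebraMap K S (ε s) ∈ RingHom.ker ε := by
        rw [RingHom.mem_ker, map_sub, ε.commutes]; simp
      rw [← hQ, Ideal.mem_comap, map_sub, ← IsScalarTower.algebraMap_apply] at hs
      exact ((Ideal.Quotient.eq (I := Q)).2 hs).symm
    rw [e, ← Polynomial.hom_eval₂, hpb, map_zero]
  let e : K ≃ₐ[K] B ⧸ Q := AlgEquiv.ofBijective (Algebra.ofId K (B ⧸ Q))
    (IsAlgClosed.algebraMap_bijective_of_isIntegral (k := K) (K := B ⧸ Q))
  refine ⟨(e.symm : (B ⧸ Q) →ₐ[K] K).comp (Ideal.Quotient.mkₐ K Q), fun s => ?_⟩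
  show e.symm (Ideal.Quotient.mk Q (algebraMap S B s)) = ε s
  rw [AlgEquiv.symm_apply_eq]
  have hs : s - algebraMap K S (ε s) ∈ RingHom.ker ε := by
    rw [RingHom.mem_ker, map_sub, ε.commutes]; simp
  rw [← hQ, Ideal.mem_comap, map_sub, ← IsScalarTower.algebraMap_apply] at hs
  exact (Ideal.Quotient.eq (I := Q)).2 hs

/-- Points of a subring extend when a fixed element makes all variables integral and is non-zero at the point. -/
theorem exists_eval_extends [IsAlgClosed K] {M : ℕ} {S : Type*} [CommRing S] [Algebra K S]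
    [Algebra S (MvPolynomial (Fin M) K)] [IsScalarTower K S (MvPolynomial (Fin M) K)]
    (hS : Function.Injective (algebraMap S (MvPolynomial (Fin M) K))) (c₀ : S)
    (hcX : ∀ i, IsIntegral S (algebraMap S (MvPolynomial (Fin M) K) c₀ * X i))
    (εS : S →ₐ[K] K) (hεc : εS c₀ ≠ 0) :
    ∃ v : Fin M → K, ∀ s : S, MvPolynomial.eval v (algebraMap S (MvPolynomial (Fin M) K) s) = εS s := by
  set B₂ := integralClosure S (MvPolynomial (Fin M) K)
  have hSinj : Function.Injective (algebraMap S B₂) := fun x y h => hS (congrArg Subtype.val h :)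
  obtain ⟨ψ, hψS⟩ := exists_point_extends (S := S) (B := ↥B₂) hSinj inferInstance εS
  let v : Fin M → K := fun i => ψ ⟨_, hcX i⟩ / εS c₀
  refine ⟨v, fun s => ?_⟩
  have hE : ∀ b : MvPolynomial (Fin M) K, ∃ (N : ℕ) (y : B₂),
      (y : MvPolynomial (Fin M) K) = algebraMap S (MvPolynomial (Fin M) K) c₀ ^ N * b ∧
      ψ y = εS c₀ ^ N * MvPolynomial.eval v b := by
    intro b
    induction b using MvPolynomial.induction_on with
    | C k =>
      refine ⟨0, algebraMap S B₂ (algebraMap K S k), ?_, ?_⟩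
      · rw [pow_zero, one_mul]
        show algebraMap S (MvPolynomial (Fin M) K) (algebraMap K S k) = C k
        rw [← IsScalarTower.algebraMap_apply]; rfl
      · rw [hψS, εS.commutes, pow_zero, one_mul, MvPolynomial.eval_C]; rfl
    | add p r hp hr =>
      obtain ⟨N, y, ey, ep⟩ := hp
      obtain ⟨N', y', ey', er⟩ := hr
      refine ⟨N + N', algebraMap S B₂ c₀ ^ N' * y + algebraMap S B₂ c₀ ^ N * y', ?_, ?_⟩
      · rw [AddMemClass.coe_add, MulMemClass.coe_mul, MulMemClass.coe_mul, SubmonoidClass.coe_pow,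
          SubmonoidClass.coe_pow, ey, ey']
        show algebraMap S (MvPolynomial (Fin M) K) c₀ ^ N' * _ + algebraMap S (MvPolynomial (Fin M) K) c₀ ^ N * _ = _
        ring
      · rw [map_add, map_mul, map_mul, map_pow, map_pow, hψS, ep, er, map_add]
        ring
    | mul_X p i hp =>
      obtain ⟨N, y, ey, ep⟩ := hp
      refine ⟨N + 1, y * ⟨_, hcX i⟩, ?_, ?_⟩
      · rw [MulMemClass.coe_mul, ey]
        ring
      · rw [map_mul, ep, MvPolynomial.eval_mul, MvPolynomial.eval_X, pow_succ]
        simp only [v]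
        field_simp
  obtain ⟨N, y, ey, e⟩ := hE (algebraMap S _ s)
  have e2 : ψ y = εS c₀ ^ N * εS s := by
    rw [show y = algebraMap S B₂ (c₀ ^ N * s) from Subtype.ext (by
      rw [ey]
      show _ = algebraMap S (MvPolynomial (Fin M) K) (c₀ ^ N * s)
      rw [map_mul, map_pow]), hψS, map_mul, map_pow]
  exact mul_left_cancel₀ (pow_ne_zero _ hεc) (e.symm.trans e2)

set_option synthInstance.maxHeartbeats 200000 in
/-- An embedding into a polynomial ring: the points off a hypersurface extend. -/
theorem exists_open_extends [IsAlgClosed K] {M : ℕ} (ι : A →ₐ[K] MvPolynomial (Fin M) K)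
    (hι : Function.Injective ι) :
    ∃ a : A, a ≠ 0 ∧ ∀ ε : A →ₐ[K] K, ε a ≠ 0 → ∃ v : Fin M → K, ∀ f, ε f = MvPolynomial.eval v (ι f) := by
  classical
  let _ : Algebra A (MvPolynomial (Fin M) K) := ι.toRingHom.toAlgebra
  have : IsScalarTower K A (MvPolynomial (Fin M) K) := IsScalarTower.of_algebraMap_eq fun k => (ι.commutes k).symm
  have hfaith : FaithfulSMul A (MvPolynomial (Fin M) K) := (faithfulSMul_iff_algebraMap_injective _ _).2 hι
  have hXalg : Algebra.IsAlgebraic (Algebra.adjoin A (Set.range (X : Fin M → MvPolynomial (Fin M) K)))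
      (MvPolynomial (Fin M) K) := by
    refine ⟨fun b => ?_⟩
    have hb : b ∈ Algebra.adjoin A (Set.range (X : Fin M → MvPolynomial (Fin M) K)) := by
      induction b using MvPolynomial.induction_on with
      | C k =>
        rw [show (C k : MvPolynomial (Fin M) K) = algebraMap A _ (algebraMap K A k) from
          IsScalarTower.algebraMap_apply K A (MvPolynomial (Fin M) K) k]
        exact Subalgebra.algebraMap_mem _ _
      | add p r hp hr => exact add_mem hp hr
      | mul_X p i hp => exact mul_mem hp (Algebra.subset_adjoin ⟨i, rfl⟩)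
    exact isAlgebraic_algebraMap (⟨b, hb⟩ : Algebra.adjoin A (Set.range (X : Fin M → MvPolynomial (Fin M) K)))
  obtain ⟨u, -, hu⟩ := exists_isTranscendenceBasis_subset (R := A)
    (Set.range (X : Fin M → MvPolynomial (Fin M) K))
  set S := Algebra.adjoin A (Set.range ((↑) : u → MvPolynomial (Fin M) K))
  have := hu.isAlgebraic
  choose c hc hcint using fun i : Fin M =>
    (Algebra.IsAlgebraic.isAlgebraic (R := S) (X i : MvPolynomial (Fin M) K)).exists_integral_multiple
  set c₀ : S := ∏ i, c i
  have hc₀ : c₀ ≠ 0 := Finset.prod_ne_zero_iff.2 fun i _ => hc i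
  let eS := hu.1.aevalEquiv
  set p : MvPolynomial u A := eS.symm c₀
  have hp : p ≠ 0 := fun h => hc₀ (by rw [← eS.apply_symm_apply c₀, show eS.symm c₀ = p from rfl, h, map_zero])
  obtain ⟨d, hd⟩ := MvPolynomial.ne_zero_iff.1 hp
  refine ⟨p.coeff d, hd, fun ε hε => ?_⟩
  have hpε : MvPolynomial.map (ε : A →+* K) p ≠ 0 := fun h => hε (by
    have := congrArg (fun r => MvPolynomial.coeff d r) h
    simpa [MvPolynomial.coeff_map] using this)
  have : Infinite K := IsAlgClosed.instInfinite
  obtain ⟨w, hw⟩ : ∃ w : u → K, MvPolynomial.eval w (MvPolynomial.map (ε : A →+* K) p) ≠ 0 := by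
    by_contra h
    push Not at h
    exact hpε (MvPolynomial.funext fun w => by rw [h w, map_zero])
  let εS : S →ₐ[K] K :=
    { toRingHom := (MvPolynomial.eval₂Hom (ε : A →+* K) w).comp eS.symm.toRingEquiv.toRingHom
      commutes' := fun k => by
        show MvPolynomial.eval₂Hom (ε : A →+* K) w (eS.symm (algebraMap K S k)) = k
        rw [IsScalarTower.algebraMap_apply K A S k, eS.symm.commutes]
        show MvPolynomial.eval₂ (ε : A →+* K) w (C (algebraMap K A k)) = k
        rw [MvPolynomial.eval₂_C]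
        exact ε.commutes k }
  have hεA : ∀ f : A, εS (algebraMap A S f) = ε f := fun f => by
    show MvPolynomial.eval₂Hom (ε : A →+* K) w (eS.symm (algebraMap A S f)) = ε f
    rw [eS.symm.commutes]
    exact MvPolynomial.eval₂_C _ _ f
  have hεc : εS c₀ ≠ 0 := by
    show MvPolynomial.eval₂Hom (ε : A →+* K) w p ≠ 0
    rwa [MvPolynomial.coe_eval₂Hom, MvPolynomial.eval₂_eq_eval_map]
  obtain ⟨v, hv⟩ := exists_eval_extends (S := ↥S) (fun x y h => Subtype.ext h) c₀ (fun i => by
    rw [show c₀ = (∏ j ∈ Finset.univ.erase i, c j) * c i from (Finset.prod_erase_mul _ _ (Finset.mem_univ i)).symm,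
      map_mul, mul_assoc, ← Algebra.smul_def (c i)]
    exact isIntegral_algebraMap.mul (hcint i)) εS hεc
  refine ⟨v, fun f => ?_⟩
  rw [← hεA f, ← hv]
  rfl

end Algebraic

section Span

variable {A : Type*} [CommRing A] [Algebra K A]

/-- Finitely many generators whose `q`-th powers are linear in them generate a finite extension. -/
theorem isIntegral_of_pow_mem_span {κ : Type*} [Fintype κ] (R : Subalgebra K A) (v : κ → A)
    (hgen : Algebra.adjoin K (Set.range v) = ⊤) {q : ℕ} (hq : 2 ≤ q)
    (h : ∀ j, v j ^ q ∈ Submodule.span R (Set.range v)) : Algebra.IsIntegral R A := by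
  classical
  let mono : (κ → ℕ) → A := fun e => ∏ j, v j ^ e j
  let Z := Submodule.span R (Set.range fun e : κ → Fin q => mono fun j => (e j : ℕ))
  have hmono : ∀ d : ℕ, ∀ e : κ → ℕ, ∑ j, e j ≤ d → mono e ∈ Z := by
    intro d
    induction d using Nat.strong_induction_on with
    | _ d ih =>
      intro e he
      by_cases hsmall : ∀ j, e j < q
      · exact Submodule.subset_span ⟨fun j => ⟨e j, hsmall j⟩, rfl⟩
      push Not at hsmall
      obtain ⟨j, hj⟩ := hsmall
      set e' : κ → ℕ := Function.update e j (e j - q)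
      have hsplit : mono e = v j ^ q * mono e' := by
        show ∏ k, v k ^ e k = v j ^ q * ∏ k, v k ^ e' k
        rw [← Finset.mul_prod_erase _ _ (Finset.mem_univ j), ← Finset.mul_prod_erase (f := fun k => v k ^ e' k) _
          (Finset.mem_univ j), ← mul_assoc]
        congr 1
        · rw [← pow_add]; congr 1; simp [e']; omega
        · exact Finset.prod_congr rfl fun k hk => by simp [e', (Finset.mem_erase.1 hk).1]
      have hdeg : ∑ k, e' k + q ≤ d := by
        refine le_trans (le_of_eq ?_) he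
        rw [← Finset.add_sum_erase _ _ (Finset.mem_univ j), ← Finset.add_sum_erase (f := e) _ (Finset.mem_univ j)]
        have : ∑ k ∈ Finset.univ.erase j, e' k = ∑ k ∈ Finset.univ.erase j, e k :=
          Finset.sum_congr rfl fun k hk => by simp [e', (Finset.mem_erase.1 hk).1]
        simp [e', this]; omega
      rw [hsplit]
      have hle : Submodule.span R (Set.range v) ≤ Z.comap (LinearMap.mulRight R (mono e')) := by
        refine Submodule.span_le.2 ?_
        rintro _ ⟨l, rfl⟩
        show v l * mono e' ∈ Z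
        have e2 : v l * mono e' = mono (Function.update e' l (e' l + 1)) := by
          show v l * ∏ k, v k ^ e' k = ∏ k, v k ^ Function.update e' l (e' l + 1) k
          rw [← Finset.mul_prod_erase _ _ (Finset.mem_univ l),
            ← Finset.mul_prod_erase (f := fun k => v k ^ Function.update e' l (e' l + 1) k) _ (Finset.mem_univ l),
            ← mul_assoc]
          congr 1
          · simp [pow_succ, mul_comm]
          · exact Finset.prod_congr rfl fun k hk => by simp [(Finset.mem_erase.1 hk).1]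
        rw [e2]
        refine ih (∑ k, e' k + 1) (by omega) _ (le_of_eq ?_)
        rw [Finset.sum_update_of_mem (Finset.mem_univ l), ← Finset.add_sum_erase (f := e') _ (Finset.mem_univ l),
          Finset.sdiff_singleton_eq_erase]
        ring
      exact hle (h j)
  have htop : Z = ⊤ := by
    rw [eq_top_iff]
    rintro a -
    have ha : a ∈ Algebra.adjoin K (Set.range v) := hgen ▸ Algebra.mem_top
    rw [← Subalgebra.mem_toSubmodule, Algebra.adjoin_eq_span] at ha
    refine (Submodule.span_le (p := Z.restrictScalars K)).2 ?_ ha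
    intro y hy
    show y ∈ Z
    obtain ⟨e, rfl⟩ : ∃ e : κ → ℕ, mono e = y := by
      induction hy using Submonoid.closure_induction with
      | mem x hx =>
        obtain ⟨l, rfl⟩ := hx
        exact ⟨Pi.single l 1, by
          show ∏ k, v k ^ (Pi.single l 1 : κ → ℕ) k = v l
          rw [Finset.prod_eq_single l (fun k _ hk => by simp [Pi.single_eq_of_ne hk]) (by simp)]
          simp⟩
      | one => exact ⟨0, by simp [mono]⟩
      | mul x y _ _ hx hy =>
        obtain ⟨a, rfl⟩ := hx
        obtain ⟨b, rfl⟩ := hy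
        exact ⟨a + b, by simp [mono, pow_add, Finset.prod_mul_distrib]⟩
    exact hmono _ e le_rfl
  have : Module.Finite R A := ⟨(Set.finite_range _).toFinset, by rw [Set.Finite.coe_toFinset]; exact htop⟩
  exact Algebra.IsIntegral.of_finite R A

end Span

section Group

variable {n : Type*} [Fintype n] [DecidableEq n]

/-- One-parameter generators with polynomial entries, compatible with the `q`-th power map. -/
structure Gens (K : Type*) [Field K] (n : Type*) [Fintype n] [DecidableEq n] (σ : K →+* K) where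
  /-- the index set -/
  ι : Type
  /-- the generators -/
  x : ι → K → GL n K
  x_zero : ∀ i, x i 0 = 1
  x_neg : ∀ i t, (x i t)⁻¹ = x i (-t)
  x_poly : ∀ i, ∃ P : Matrix n n (Polynomial K), ∀ t, (x i t : Matrix n n K) = P.map (Polynomial.eval t)
  x_frob : ∀ i t, Units.map σ.mapMatrix.toMonoidHom (x i t) = x i (σ t)

namespace Gens

variable {σ : K →+* K} (Ω : Gens K n σ)

/-- The group generated. -/
def group : Subgroup (GL n K) := Subgroup.closure {g | ∃ i t, g = Ω.x i t}

/-- A word in the generators. -/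
noncomputable def word {M : ℕ} (w : Fin M → Ω.ι) (v : Fin M → K) : GL n K :=
  (List.ofFn fun k => Ω.x (w k) (v k)).prod

theorem x_mem (i : Ω.ι) (t : K) : Ω.x i t ∈ Ω.group := Subgroup.subset_closure ⟨i, t, rfl⟩

theorem word_mem {M : ℕ} (w : Fin M → Ω.ι) (v : Fin M → K) : Ω.word w v ∈ Ω.group :=
  Subgroup.list_prod_mem _ fun g hg => by
    obtain ⟨k, rfl⟩ := List.mem_ofFn.1 hg
    exact Ω.x_mem _ _

theorem word_append {M M' : ℕ} (w : Fin M → Ω.ι) (w' : Fin M' → Ω.ι) (v : Fin M → K) (v' : Fin M' → K) :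
    Ω.word (Fin.append w w') (Fin.append v v') = Ω.word w v * Ω.word w' v' := by
  rw [word, word, word, ← List.prod_append, ← List.ofFn_fin_append]
  congr 2
  funext k
  refine Fin.addCases (fun a => ?_) (fun a => ?_) k <;> simp

theorem word_zero {M : ℕ} (w : Fin M → Ω.ι) : Ω.word w 0 = 1 :=
  List.prod_eq_one fun g hg => by
    obtain ⟨k, rfl⟩ := List.mem_ofFn.1 hg
    exact Ω.x_zero _

theorem exists_word {g : GL n K} (hg : g ∈ Ω.group) :
    ∃ (M : ℕ) (w : Fin M → Ω.ι) (v : Fin M → K), g = Ω.word w v := by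
  induction hg using Subgroup.closure_induction_right with
  | one => exact ⟨0, Fin.elim0, Fin.elim0, by simp [word]⟩
  | mul_right x y _ hy hx =>
    obtain ⟨M, w, v, rfl⟩ := hx
    obtain ⟨i, t, rfl⟩ := hy
    exact ⟨_, Fin.append w (fun _ : Fin 1 => i), Fin.append v (fun _ => t), by
      rw [Ω.word_append]; simp [word]⟩
  | mul_inv_cancel x y _ hy hx =>
    obtain ⟨M, w, v, rfl⟩ := hx
    obtain ⟨i, t, rfl⟩ := hy
    exact ⟨_, Fin.append w (fun _ : Fin 1 => i), Fin.append v (fun _ => -t), by
      rw [Ω.word_append, Ω.x_neg]; simp [word]⟩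

theorem frob_mem {g : GL n K} (hg : g ∈ Ω.group) : Units.map σ.mapMatrix.toMonoidHom g ∈ Ω.group := by
  refine (Subgroup.closure_le (Ω.group.comap (Units.map σ.mapMatrix.toMonoidHom))).2 ?_ hg
  rintro g ⟨i, t, rfl⟩
  rw [SetLike.mem_coe, Subgroup.mem_comap, Ω.x_frob]
  exact Ω.x_mem _ _

/-- The index set of the coordinate functions. -/
abbrev Co (n : Type*) := (n × n) ⊕ (n × n)

/-- The entries of an invertible matrix and its inverse. -/
def entries (g : GL n K) : Co n → K :=
  Sum.elim (fun p => (g : Matrix n n K) p.1 p.2) (fun p => ((g⁻¹ : GL n K) : Matrix n n K) p.1 p.2)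

/-- The coordinate functions on the group. -/
def coord (c : Co n) : ↥Ω.group → K := fun g => entries (g : GL n K) c

/-- The coordinate ring. -/
def ring : Subalgebra K (↥Ω.group → K) := Algebra.adjoin K (Set.range Ω.coord)

theorem coord_mem (c : Co n) : Ω.coord c ∈ Ω.ring := Algebra.subset_adjoin ⟨c, rfl⟩

/-- A coordinate as an element of the coordinate ring. -/
def cr (c : Co n) : Ω.ring := ⟨Ω.coord c, Algebra.subset_adjoin ⟨c, rfl⟩⟩

theorem adjoin_cr : Algebra.adjoin K (Set.range Ω.cr) = ⊤ := by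
  refine Subalgebra.map_injective (f := Ω.ring.val) Subtype.val_injective ?_
  rw [← Algebra.adjoin_image, Algebra.map_top, Subalgebra.range_val, ← Set.range_comp]
  rfl

/-- Evaluation at a point. -/
def evalAt (g : ↥Ω.group) : Ω.ring →ₐ[K] K := (Pi.evalAlgHom K (fun _ : ↥Ω.group => K) g).comp Ω.ring.val

theorem exists_poly {M : ℕ} (w : Fin M → Ω.ι) {f : ↥Ω.group → K} (hf : f ∈ Ω.ring) :
    ∃ p : MvPolynomial (Fin M) K, ∀ v, f ⟨Ω.word w v, Ω.word_mem w v⟩ = MvPolynomial.eval v p := by
  induction hf using Algebra.adjoin_induction with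
  | mem f hf =>
    obtain ⟨c, rfl⟩ := hf
    choose P hP using fun i => Ω.x_poly i
    have key : ∀ (L : List (Fin M)), ∃ Q : Matrix n n (MvPolynomial (Fin M) K) × Matrix n n (MvPolynomial (Fin M) K),
        ∀ v : Fin M → K,
          (((L.map fun k => Ω.x (w k) (v k)).prod : GL n K) : Matrix n n K) = Q.1.map (MvPolynomial.eval v) ∧
          (((L.map fun k => Ω.x (w k) (v k)).prod⁻¹ : GL n K) : Matrix n n K) = Q.2.map (MvPolynomial.eval v) := by
      intro L
      induction L with
      | nil => exact ⟨(1, 1), fun v => by simp [Matrix.map_one]⟩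
      | cons k L ih =>
        obtain ⟨Q, hQ⟩ := ih
        refine ⟨((P (w k)).map (Polynomial.aeval (X k : MvPolynomial (Fin M) K)) * Q.1,
          Q.2 * (P (w k)).map (Polynomial.aeval (-X k : MvPolynomial (Fin M) K))), fun v => ?_⟩
        have e : ∀ (y : MvPolynomial (Fin M) K),
            ((P (w k)).map (Polynomial.aeval y)).map (MvPolynomial.eval v) =
              (Ω.x (w k) (MvPolynomial.eval v y) : Matrix n n K) := fun y => by
          rw [hP, Matrix.map_map]
          refine congrArg _ (funext fun r => ?_)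
          show MvPolynomial.eval v (Polynomial.aeval y r) = _
          induction r using Polynomial.induction_on' with
          | add r r' h h' => simp [h, h']
          | monomial j a => simp
        rw [List.map_cons, List.prod_cons, mul_inv_rev, Ω.x_neg, Units.val_mul, Units.val_mul, (hQ v).1, (hQ v).2,
          Matrix.map_mul, Matrix.map_mul, e, e]
        simp
    obtain ⟨Q, hQ⟩ := key (List.finRange M)
    refine ⟨Sum.elim (fun p => Q.1 p.1 p.2) (fun p => Q.2 p.1 p.2) c, fun v => ?_⟩
    have e : Ω.word w v = ((List.finRange M).map fun k => Ω.x (w k) (v k)).prod := by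
      rw [word, List.ofFn_eq_map]
    rcases c with p | p <;> simp only [coord, entries, Sum.elim_inl, Sum.elim_inr, e]
    · rw [(hQ v).1]; rfl
    · rw [(hQ v).2]; rfl
  | algebraMap r => exact ⟨C r, fun v => by simp⟩
  | add f g _ _ hf hg =>
    obtain ⟨p, hp⟩ := hf
    obtain ⟨p', hp'⟩ := hg
    exact ⟨p + p', fun v => by simp [hp, hp']⟩
  | mul f g _ _ hf hg =>
    obtain ⟨p, hp⟩ := hf
    obtain ⟨p', hp'⟩ := hg
    exact ⟨p * p', fun v => by simp [hp, hp']⟩

variable [IsAlgClosed K]

/-- The pullback to the parameters of a word. -/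
noncomputable def pull {M : ℕ} (w : Fin M → Ω.ι) : Ω.ring →ₐ[K] MvPolynomial (Fin M) K :=
  have : Infinite K := IsAlgClosed.instInfinite
  { toFun := fun f => Classical.choose (Ω.exists_poly w f.2)
    map_one' := MvPolynomial.funext fun v => by
      rw [← Classical.choose_spec (Ω.exists_poly w (one_mem Ω.ring)) v, map_one]; rfl
    map_mul' := fun f g => MvPolynomial.funext fun v => by
      rw [map_mul, ← Classical.choose_spec (Ω.exists_poly w f.2) v,
        ← Classical.choose_spec (Ω.exists_poly w g.2) v,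
        ← Classical.choose_spec (Ω.exists_poly w (f * g).2) v]
      rfl
    map_zero' := MvPolynomial.funext fun v => by
      rw [← Classical.choose_spec (Ω.exists_poly w (zero_mem Ω.ring)) v, map_zero]; rfl
    map_add' := fun f g => MvPolynomial.funext fun v => by
      rw [map_add, ← Classical.choose_spec (Ω.exists_poly w f.2) v,
        ← Classical.choose_spec (Ω.exists_poly w g.2) v,
        ← Classical.choose_spec (Ω.exists_poly w (f + g).2) v]
      rfl
    commutes' := fun k => MvPolynomial.funext fun v => by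
      rw [← Classical.choose_spec (Ω.exists_poly w (algebraMap K Ω.ring k).2) v]
      simp }

theorem eval_pull {M : ℕ} (w : Fin M → Ω.ι) (f : Ω.ring) (v : Fin M → K) :
    MvPolynomial.eval v (Ω.pull w f) = (f : ↥Ω.group → K) ⟨Ω.word w v, Ω.word_mem w v⟩ :=
  (Classical.choose_spec (Ω.exists_poly w f.2) v).symm

theorem pull_eq_zero_iff {M : ℕ} (w : Fin M → Ω.ι) (f : Ω.ring) :
    Ω.pull w f = 0 ↔ ∀ v, (f : ↥Ω.group → K) ⟨Ω.word w v, Ω.word_mem w v⟩ = 0 := by
  have : Infinite K := IsAlgClosed.instInfinite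
  exact ⟨fun h v => by rw [← Ω.eval_pull, h, map_zero],
    fun h => MvPolynomial.funext fun v => by rw [Ω.eval_pull, h, map_zero]⟩

theorem isDomain_ring : IsDomain Ω.ring := by
  have : Nontrivial Ω.ring := ⟨⟨0, 1, fun h => zero_ne_one (congrFun (congrArg Subtype.val h) 1)⟩⟩
  have : NoZeroDivisors Ω.ring := ⟨fun {f g} h => by
    by_contra hc
    push Not at hc
    obtain ⟨x, hx⟩ : ∃ x, (f : ↥Ω.group → K) x ≠ 0 := by
      by_contra h'; push Not at h'; exact hc.1 (Subtype.ext (funext h'))
    obtain ⟨y, hy⟩ : ∃ y, (g : ↥Ω.group → K) y ≠ 0 := by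
      by_contra h'; push Not at h'; exact hc.2 (Subtype.ext (funext h'))
    obtain ⟨M, w, v, hv⟩ := Ω.exists_word x.2
    obtain ⟨M', w', v', hv'⟩ := Ω.exists_word y.2
    have h0 : Ω.pull (Fin.append w w') f * Ω.pull (Fin.append w w') g = 0 := by rw [← map_mul, h, map_zero]
    rcases mul_eq_zero.1 h0 with e | e
    · apply hx
      rw [← (Ω.pull_eq_zero_iff _ f).1 e (Fin.append v 0)]
      exact congrArg _ (Subtype.ext (by show (x : GL n K) = Ω.word _ _; rw [Ω.word_append, Ω.word_zero, mul_one, hv]))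
    · apply hy
      rw [← (Ω.pull_eq_zero_iff _ g).1 e (Fin.append 0 v')]
      exact congrArg _ (Subtype.ext (by show (y : GL n K) = Ω.word _ _; rw [Ω.word_append, Ω.word_zero, one_mul, hv']))⟩
  exact NoZeroDivisors.to_isDomain _

/-- Setting the parameters of a second word to zero. -/
noncomputable def restr (K : Type*) [Field K] (M M' : ℕ) : MvPolynomial (Fin (M + M')) K →ₐ[K] MvPolynomial (Fin M) K :=
  MvPolynomial.aeval (Fin.append (X : Fin M → MvPolynomial (Fin M) K) 0)

/-- Forgetting the second word. -/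
theorem rename_pull {M M' : ℕ} (w : Fin M → Ω.ι) (w' : Fin M' → Ω.ι) (f : Ω.ring) :
    restr K M M' (Ω.pull (Fin.append w w') f) = Ω.pull w f := by
  rw [restr]
  have : Infinite K := IsAlgClosed.instInfinite
  refine MvPolynomial.funext fun v => ?_
  have e : ∀ r : MvPolynomial (Fin (M + M')) K,
      MvPolynomial.eval v (MvPolynomial.aeval (Fin.append (X : Fin M → MvPolynomial (Fin M) K) 0) r) =
        MvPolynomial.eval (Fin.append v 0) r := fun r => by
    induction r using MvPolynomial.induction_on with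
    | C k => simp
    | add r r' h h' => rw [map_add, map_add, h, h', map_add]
    | mul_X r i h =>
      rw [map_mul, MvPolynomial.eval_mul, h, MvPolynomial.eval_mul, MvPolynomial.aeval_X, MvPolynomial.eval_X]
      congr 1
      refine Fin.addCases (fun a => ?_) (fun a => ?_) i <;> simp
  rw [e, Ω.eval_pull, Ω.eval_pull]
  exact congrArg _ (Subtype.ext (by show Ω.word _ _ = Ω.word w v; rw [Ω.word_append, Ω.word_zero, mul_one]))

theorem indep_step {M M' k : ℕ} (w : Fin M → Ω.ι) (w' : Fin M' → Ω.ι) (t : Fin k → Ω.ring)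
    (hind : AlgebraicIndependent K (fun j => Ω.pull w (t j))) {f : Ω.ring} (hf0 : Ω.pull w f = 0)
    (hf' : Ω.pull (Fin.append w w') f ≠ 0) :
    AlgebraicIndependent K (fun j => Ω.pull (Fin.append w w') ((Fin.cons f t : Fin (k + 1) → Ω.ring) j)) := by
  have hρu : ∀ j, restr K M M' (Ω.pull (Fin.append w w') (t j)) = Ω.pull w (t j) := fun j => Ω.rename_pull w w' (t j)
  have hu : AlgebraicIndependent K (fun j => Ω.pull (Fin.append w w') (t j)) := by
    refine AlgebraicIndependent.of_comp (restr K M M') ?_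
    rw [show (⇑(restr K M M') ∘ fun j => Ω.pull (Fin.append w w') (t j)) = fun j => Ω.pull w (t j) from funext hρu]
    exact hind
  have hopt : AlgebraicIndependent K (fun o : Option (Fin k) =>
      o.elim (Ω.pull (Fin.append w w') f) (fun j => Ω.pull (Fin.append w w') (t j))) := by
    rw [hu.option_iff_transcendental]
    intro halg
    obtain ⟨c, hc, r, hr⟩ := IsAlgebraic.exists_nonzero_dvd halg (mem_nonZeroDivisors_of_ne_zero hf')
    have hρc : restr K M M' (c : MvPolynomial (Fin (M + M')) K) = 0 := by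
      show restr K M M' (algebraMap _ (MvPolynomial (Fin (M + M')) K) c) = 0
      rw [hr, map_mul, Ω.rename_pull, hf0, zero_mul]
    have hcmem : (c : MvPolynomial (Fin (M + M')) K) ∈
        (MvPolynomial.aeval (R := K) (fun j => Ω.pull (Fin.append w w') (t j))).range := by
      rw [← Algebra.adjoin_range_eq_range_aeval]; exact c.2
    obtain ⟨p, hp⟩ := hcmem
    rw [← (show MvPolynomial.aeval (fun j => Ω.pull (Fin.append w w') (t j)) p = _ from hp),
      ← AlgHom.comp_apply, MvPolynomial.comp_aeval,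
      show (fun i => restr K M M' (Ω.pull (Fin.append w w') (t i))) = fun j => Ω.pull w (t j) from funext hρu] at hρc
    refine hc (Subtype.ext ?_)
    rw [← (show MvPolynomial.aeval (fun j => Ω.pull (Fin.append w w') (t j)) p = _ from hp),
      (algebraicIndependent_iff_injective_aeval.1 hind) (hρc.trans (map_zero _).symm)]
    simp
  convert hopt.comp (finSuccEquiv k) (finSuccEquiv k).injective using 1
  funext j
  refine Fin.cases ?_ (fun a => ?_) j <;> simp

theorem exists_pull_injective :
    ∃ (M : ℕ) (w : Fin M → Ω.ι), Function.Injective (Ω.pull w) := by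
  classical
  have hfin : Algebra.FiniteType K Ω.ring := ⟨⟨(Set.finite_range Ω.cr).toFinset, by simpa using Ω.adjoin_cr⟩⟩
  have := Ω.isDomain_ring
  by_contra hcon
  push Not at hcon
  have hstep : ∀ k : ℕ, ∃ (M : ℕ) (w : Fin M → Ω.ι) (t : Fin k → Ω.ring),
      AlgebraicIndependent K (fun j => Ω.pull w (t j)) := by
    intro k
    induction k with
    | zero =>
      refine ⟨0, Fin.elim0, Fin.elim0, algebraicIndependent_empty_type_iff.2 (RingHom.injective _)⟩
    | succ k ih =>
      obtain ⟨M, w, t, hind⟩ := ih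
      have hni := hcon M w
      rw [injective_iff_map_eq_zero] at hni
      push Not at hni
      obtain ⟨f, hf0, hne⟩ := hni
      obtain ⟨x, hx⟩ : ∃ x, (f : ↥Ω.group → K) x ≠ 0 := by
        by_contra h'; push Not at h'; exact hne (Subtype.ext (funext h'))
      obtain ⟨M', w', v', hv'⟩ := Ω.exists_word x.2
      have hf' : Ω.pull (Fin.append w w') f ≠ 0 := fun h0 => by
        apply hx
        rw [← (Ω.pull_eq_zero_iff _ f).1 h0 (Fin.append 0 v')]
        exact congrArg _ (Subtype.ext (by show (x : GL n K) = Ω.word _ _; rw [Ω.word_append, Ω.word_zero, one_mul, hv']))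
      exact ⟨M + M', Fin.append w w', Fin.cons f t, Ω.indep_step w w' t hind hf0 hf'⟩
  have htr : Algebra.trdeg K Ω.ring < Cardinal.aleph0 := trdeg_lt_aleph0_of_finiteType
  obtain ⟨d, hd⟩ := Cardinal.lt_aleph0.1 htr
  obtain ⟨M, w, t, hind⟩ := hstep (d + 1)
  have := (AlgebraicIndependent.of_comp (Ω.pull w) hind).lift_cardinalMk_le_trdeg
  rw [hd, Cardinal.mk_fin, Cardinal.lift_natCast, Cardinal.lift_natCast] at this
  have := Nat.cast_le.1 this
  omega

/-- Right translation. -/
theorem rTrans_mem (g : ↥Ω.group) {f : ↥Ω.group → K} (hf : f ∈ Ω.ring) : (fun h => f (h * g)) ∈ Ω.ring := by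
  induction hf using Algebra.adjoin_induction with
  | mem f hf =>
    obtain ⟨c, rfl⟩ := hf
    rcases c with p | p
    · have e : (fun h => Ω.coord (Sum.inl p) (h * g)) =
          ∑ k, ((g : GL n K) : Matrix n n K) k p.2 • Ω.coord (Sum.inl (p.1, k)) := by
        funext h
        simp only [coord, entries, Sum.elim_inl, Subgroup.coe_mul, Units.val_mul, Matrix.mul_apply,
          Finset.sum_apply, Pi.smul_apply, smul_eq_mul]
        exact Finset.sum_congr rfl fun _ _ => mul_comm _ _
      rw [e]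
      exact Subalgebra.sum_mem _ fun k _ => Subalgebra.smul_mem _ (Ω.coord_mem _) _
    · have e : (fun h => Ω.coord (Sum.inr p) (h * g)) =
          ∑ k, (((g : GL n K)⁻¹ : GL n K) : Matrix n n K) p.1 k • Ω.coord (Sum.inr (k, p.2)) := by
        funext h
        simp only [coord, entries, Sum.elim_inr, Subgroup.coe_mul, mul_inv_rev, Units.val_mul, Matrix.mul_apply,
          Finset.sum_apply, Pi.smul_apply, smul_eq_mul]
      rw [e]
      exact Subalgebra.sum_mem _ fun k _ => Subalgebra.smul_mem _ (Ω.coord_mem _) _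
  | algebraMap r => exact Subalgebra.algebraMap_mem _ r
  | add _ _ _ _ hf hg => exact add_mem hf hg
  | mul _ _ _ _ hf hg => exact mul_mem hf hg

/-- Right translation as an endomorphism of the coordinate ring. -/
def rTrans (g : ↥Ω.group) : Ω.ring →ₐ[K] Ω.ring where
  toFun f := ⟨fun h => (f : ↥Ω.group → K) (h * g), Ω.rTrans_mem g f.2⟩
  map_one' := rfl
  map_mul' _ _ := rfl
  map_zero' := rfl
  map_add' _ _ := rfl
  commutes' _ := rfl

/-- The matrix of a point. -/
def ptMat (ε : Ω.ring →ₐ[K] K) : Matrix n n K := fun i j => ε (Ω.cr (Sum.inl (i, j)))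

/-- The inverse matrix of a point. -/
def ptInv (ε : Ω.ring →ₐ[K] K) : Matrix n n K := fun i j => ε (Ω.cr (Sum.inr (i, j)))

theorem pt_mul (ε : Ω.ring →ₐ[K] K) : Ω.ptInv ε * Ω.ptMat ε = 1 := by
  ext i j
  rw [Matrix.mul_apply]
  have e : (∑ k, Ω.cr (Sum.inr (i, k)) * Ω.cr (Sum.inl (k, j))) = algebraMap K Ω.ring ((1 : Matrix n n K) i j) := by
    refine Subtype.ext (funext fun g => ?_)
    rw [AddSubmonoidClass.coe_finsetSum, Finset.sum_apply]
    show ∑ k, (((g : GL n K)⁻¹ : GL n K) : Matrix n n K) i k * ((g : GL n K) : Matrix n n K) k j = _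
    rw [← Matrix.mul_apply, Units.inv_mul]
    rfl
  have := congrArg ε e
  rw [map_sum, ε.commutes] at this
  simpa [ptMat, ptInv] using this

theorem lFun_inl (ε : Ω.ring →ₐ[K] K) (p : n × n) :
    (fun g => ε (Ω.rTrans g (Ω.cr (Sum.inl p)))) = ∑ k, Ω.ptMat ε p.1 k • Ω.coord (Sum.inl (k, p.2)) := by
  funext g
  have e2 : Ω.rTrans g (Ω.cr (Sum.inl p)) =
      ∑ k, ((g : GL n K) : Matrix n n K) k p.2 • Ω.cr (Sum.inl (p.1, k)) := by
    refine Subtype.ext (funext fun h => ?_)
    rw [AddSubmonoidClass.coe_finsetSum, Finset.sum_apply]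
    simp only [SetLike.val_smul, Pi.smul_apply, smul_eq_mul]
    show ((((h * g : ↥Ω.group) : GL n K)) : Matrix n n K) p.1 p.2 = _
    rw [Subgroup.coe_mul, Units.val_mul, Matrix.mul_apply]
    exact Finset.sum_congr rfl fun _ _ => mul_comm _ _
  rw [e2, map_sum, Finset.sum_apply]
  simp only [map_smul, smul_eq_mul, Pi.smul_apply]
  exact Finset.sum_congr rfl fun _ _ => mul_comm _ _

theorem lFun_inr (ε : Ω.ring →ₐ[K] K) (p : n × n) :
    (fun g => ε (Ω.rTrans g (Ω.cr (Sum.inr p)))) = ∑ k, Ω.ptInv ε k p.2 • Ω.coord (Sum.inr (p.1, k)) := by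
  funext g
  have e2 : Ω.rTrans g (Ω.cr (Sum.inr p)) =
      ∑ k, (((g : GL n K)⁻¹ : GL n K) : Matrix n n K) p.1 k • Ω.cr (Sum.inr (k, p.2)) := by
    refine Subtype.ext (funext fun h => ?_)
    rw [AddSubmonoidClass.coe_finsetSum, Finset.sum_apply]
    simp only [SetLike.val_smul, Pi.smul_apply, smul_eq_mul]
    show ((((h * g : ↥Ω.group) : GL n K)⁻¹ : GL n K) : Matrix n n K) p.1 p.2 = _
    rw [Subgroup.coe_mul, mul_inv_rev, Units.val_mul, Matrix.mul_apply]
    rfl
  rw [e2, map_sum, Finset.sum_apply]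
  simp only [map_smul, smul_eq_mul, Pi.smul_apply]
  exact Finset.sum_congr rfl fun _ _ => mul_comm _ _

/-- Left translation by a point. -/
theorem lTrans_mem (ε : Ω.ring →ₐ[K] K) (f : Ω.ring) : (fun g => ε (Ω.rTrans g f)) ∈ Ω.ring := by
  obtain ⟨f, hf⟩ := f
  induction hf using Algebra.adjoin_induction with
  | mem f hf =>
    obtain ⟨c, rfl⟩ := hf
    rcases c with p | p
    · show (fun g => ε (Ω.rTrans g (Ω.cr (Sum.inl p)))) ∈ Ω.ring
      rw [Ω.lFun_inl]
      exact Subalgebra.sum_mem _ fun k _ => Subalgebra.smul_mem _ (Ω.coord_mem _) _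
    · show (fun g => ε (Ω.rTrans g (Ω.cr (Sum.inr p)))) ∈ Ω.ring
      rw [Ω.lFun_inr]
      exact Subalgebra.sum_mem _ fun k _ => Subalgebra.smul_mem _ (Ω.coord_mem _) _
  | algebraMap r =>
    rw [show (fun g => ε (Ω.rTrans g ⟨algebraMap K (↥Ω.group → K) r, Subalgebra.algebraMap_mem _ r⟩)) =
      algebraMap K _ r from funext fun g => by
        show ε (Ω.rTrans g (algebraMap K Ω.ring r)) = r
        rw [AlgHom.commutes, AlgHom.commutes]; rfl]
    exact Subalgebra.algebraMap_mem _ r
  | add f g hf' hg' ihf ihg =>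
    rw [show (fun h => ε (Ω.rTrans h ⟨f + g, add_mem hf' hg'⟩)) =
      (fun h => ε (Ω.rTrans h ⟨f, hf'⟩)) + fun h => ε (Ω.rTrans h ⟨g, hg'⟩) from funext fun h => by
        show ε (Ω.rTrans h (⟨f, hf'⟩ + ⟨g, hg'⟩)) = _
        rw [map_add, map_add]; rfl]
    exact add_mem ihf ihg
  | mul f g hf' hg' ihf ihg =>
    rw [show (fun h => ε (Ω.rTrans h ⟨f * g, mul_mem hf' hg'⟩)) =
      (fun h => ε (Ω.rTrans h ⟨f, hf'⟩)) * fun h => ε (Ω.rTrans h ⟨g, hg'⟩) from funext fun h => by
        show ε (Ω.rTrans h (⟨f, hf'⟩ * ⟨g, hg'⟩)) = _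
        rw [map_mul, map_mul]; rfl]
    exact mul_mem ihf ihg

/-- Left translation by a point, as an endomorphism. -/
def lTrans (ε : Ω.ring →ₐ[K] K) : Ω.ring →ₐ[K] Ω.ring where
  toFun f := ⟨fun g => ε (Ω.rTrans g f), Ω.lTrans_mem ε f⟩
  map_one' := Subtype.ext (funext fun g => by simp)
  map_mul' _ _ := Subtype.ext (funext fun g => by simp)
  map_zero' := Subtype.ext (funext fun g => by simp)
  map_add' _ _ := Subtype.ext (funext fun g => by simp)
  commutes' r := Subtype.ext (funext fun g => by simp)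

/-- Pullback along inversion. -/
theorem inv_mem_ring {f : ↥Ω.group → K} (hf : f ∈ Ω.ring) : (fun g => f g⁻¹) ∈ Ω.ring := by
  induction hf using Algebra.adjoin_induction with
  | mem f hf =>
    obtain ⟨c, rfl⟩ := hf
    refine Algebra.subset_adjoin ⟨c.swap, funext fun g => ?_⟩
    rcases c with p | p <;> simp [coord, entries]
  | algebraMap r => exact Subalgebra.algebraMap_mem _ r
  | add _ _ _ _ hf hg => exact add_mem hf hg
  | mul _ _ _ _ hf hg => exact mul_mem hf hg

/-- Inversion on the coordinate ring. -/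
def invHom : Ω.ring →ₐ[K] Ω.ring where
  toFun f := ⟨fun g => (f : ↥Ω.group → K) g⁻¹, Ω.inv_mem_ring f.2⟩
  map_one' := rfl
  map_mul' _ _ := rfl
  map_zero' := rfl
  map_add' _ _ := rfl
  commutes' _ := rfl

theorem invHom_cr (c : Co n) : Ω.invHom (Ω.cr c) = Ω.cr c.swap :=
  Subtype.ext (funext fun g => by
    show Ω.coord c g⁻¹ = Ω.coord c.swap g
    rcases c with p | p <;> simp [coord, entries])

theorem lTrans_inl (ε : Ω.ring →ₐ[K] K) (p : n × n) :
    Ω.lTrans ε (Ω.cr (Sum.inl p)) = ∑ k, Ω.ptMat ε p.1 k • Ω.cr (Sum.inl (k, p.2)) :=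
  Subtype.ext ((Ω.lFun_inl ε p).trans (by
    simp only [AddSubmonoidClass.coe_finsetSum, SetLike.val_smul]; rfl))

theorem lTrans_inr (ε : Ω.ring →ₐ[K] K) (p : n × n) :
    Ω.lTrans ε (Ω.cr (Sum.inr p)) = ∑ k, Ω.ptInv ε k p.2 • Ω.cr (Sum.inr (p.1, k)) :=
  Subtype.ext ((Ω.lFun_inr ε p).trans (by
    simp only [AddSubmonoidClass.coe_finsetSum, SetLike.val_smul]; rfl))

theorem lTrans_injective (ε : Ω.ring →ₐ[K] K) : Function.Injective (Ω.lTrans ε) := by
  classical
  set ε' := ε.comp Ω.invHom
  have hm : Ω.ptMat ε' = Ω.ptInv ε := by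
    ext i j; show ε (Ω.invHom _) = _; rw [Ω.invHom_cr]; rfl
  have hm' : Ω.ptInv ε' = Ω.ptMat ε := by
    ext i j; show ε (Ω.invHom _) = _; rw [Ω.invHom_cr]; rfl
  have h1 : Ω.ptMat ε * Ω.ptInv ε = 1 := mul_eq_one_comm.1 (Ω.pt_mul ε)
  have key : (Ω.lTrans ε').comp (Ω.lTrans ε) = AlgHom.id K Ω.ring := by
    refine AlgHom.ext_of_adjoin_eq_top Ω.adjoin_cr ?_
    rintro _ ⟨c, rfl⟩
    rcases c with ⟨i, j⟩ | ⟨i, j⟩ <;> rw [AlgHom.comp_apply]
    · rw [lTrans_inl, map_sum]
      simp only [map_smul, lTrans_inl, hm, Finset.smul_sum, smul_smul]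
      rw [Finset.sum_comm]
      simp only [← Finset.sum_smul, ← Matrix.mul_apply, h1, Matrix.one_apply, ite_smul, one_smul, zero_smul,
        Finset.sum_ite_eq, Finset.mem_univ, if_true, AlgHom.id_apply]
    · rw [lTrans_inr, map_sum]
      simp only [map_smul, lTrans_inr, hm', Finset.smul_sum, smul_smul]
      rw [Finset.sum_comm]
      simp only [mul_comm (Ω.ptInv ε _ _), ← Finset.sum_smul, ← Matrix.mul_apply, h1, Matrix.one_apply, ite_smul,
        one_smul, zero_smul, Finset.sum_ite_eq', Finset.mem_univ, if_true, AlgHom.id_apply]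
  exact Function.LeftInverse.injective (g := Ω.lTrans ε') fun f => DFunLike.congr_fun key f

/-- Every point of the coordinate ring comes from the group. -/
theorem exists_eq_evalAt (ε : Ω.ring →ₐ[K] K) : ∃ g : ↥Ω.group, ε = Ω.evalAt g := by
  classical
  have := Ω.isDomain_ring
  obtain ⟨M, w, hw⟩ := Ω.exists_pull_injective
  obtain ⟨a, ha, hopen⟩ := exists_open_extends (Ω.pull w) hw
  set ψ := Ω.lTrans ε
  -- a translate of the point is a point of the open set
  obtain ⟨g, hg⟩ : ∃ g, ε (Ω.rTrans g a) ≠ 0 := by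
    by_contra h
    push Not at h
    have h0 : ψ a = 0 := Subtype.ext (funext h)
    have hinj : Function.Injective ψ := Ω.lTrans_injective ε
    exact ha (hinj (h0.trans (map_zero ψ).symm))
  obtain ⟨v, hv⟩ := hopen (ε.comp (Ω.rTrans g)) hg
  refine ⟨⟨Ω.word w v, Ω.word_mem w v⟩ * g⁻¹, AlgHom.ext fun f => ?_⟩
  have := hv (Ω.rTrans g⁻¹ f)
  rw [Ω.eval_pull, AlgHom.comp_apply] at this
  have e : Ω.rTrans g (Ω.rTrans g⁻¹ f) = f := Subtype.ext (funext fun h => by
    show (f : ↥Ω.group → K) (h * g * g⁻¹) = _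
    rw [mul_inv_cancel_right])
  rw [e] at this
  exact this

omit [IsAlgClosed K] in
/-- The Lang map. -/
theorem lang_mem (g : ↥Ω.group) :
    (g : GL n K)⁻¹ * Units.map σ.mapMatrix.toMonoidHom (g : GL n K) ∈ Ω.group :=
  mul_mem (inv_mem g.2) (Ω.frob_mem g.2)

/-- The Lang map on the group. -/
def lang (g : ↥Ω.group) : ↥Ω.group := ⟨_, Ω.lang_mem g⟩

theorem lang_pull_mem {q : ℕ} (hσ : ∀ t, σ t = t ^ q) {f : ↥Ω.group → K} (hf : f ∈ Ω.ring) :
    (fun g => f (Ω.lang g)) ∈ Ω.ring := by
  induction hf using Algebra.adjoin_induction with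
  | mem f hf =>
    obtain ⟨c, rfl⟩ := hf
    rcases c with p | p
    · rw [show (fun g => Ω.coord (Sum.inl p) (Ω.lang g)) =
          ∑ k, Ω.coord (Sum.inr (p.1, k)) * Ω.coord (Sum.inl (k, p.2)) ^ q from funext fun g => by
        simp [coord, entries, lang, Units.val_mul, Matrix.mul_apply, hσ]]
      exact Subalgebra.sum_mem _ fun k _ =>
        mul_mem (Ω.coord_mem _) (pow_mem (Ω.coord_mem _) _)
    · rw [show (fun g => Ω.coord (Sum.inr p) (Ω.lang g)) =
          ∑ k, Ω.coord (Sum.inr (p.1, k)) ^ q * Ω.coord (Sum.inl (k, p.2)) from funext fun g => by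
        simp [coord, entries, lang, mul_inv_rev, Units.val_mul, Matrix.mul_apply, hσ, ← map_inv]]
      exact Subalgebra.sum_mem _ fun k _ =>
        mul_mem (pow_mem (Ω.coord_mem _) _) (Ω.coord_mem _)
  | algebraMap r => exact Subalgebra.algebraMap_mem _ r
  | add _ _ _ _ hf hg => exact add_mem hf hg
  | mul _ _ _ _ hf hg => exact mul_mem hf hg

/-- Lang's theorem. -/
theorem lang_surjective {q : ℕ} (hq : 2 ≤ q) (hσ : ∀ t, σ t = t ^ q) {m : GL n K} (hm : m ∈ Ω.group) :
    ∃ g ∈ Ω.group, g⁻¹ * Units.map σ.mapMatrix.toMonoidHom g = m := by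
  classical
  have := Ω.isDomain_ring
  let φ : Ω.ring →ₐ[K] Ω.ring :=
    { toFun := fun f => ⟨fun g => (f : ↥Ω.group → K) (Ω.lang g), Ω.lang_pull_mem hσ f.2⟩
      map_one' := rfl
      map_mul' := fun _ _ => rfl
      map_zero' := rfl
      map_add' := fun _ _ => rfl
      commutes' := fun _ => rfl }
  have hlin : ∀ c : Co n, Ω.cr c ^ q ∈ Submodule.span φ.range (Set.range Ω.cr) := by
    intro c
    rcases c with ⟨i, j⟩ | ⟨i, j⟩
    · have e : Ω.cr (Sum.inl (i, j)) ^ q = ∑ k, φ (Ω.cr (Sum.inl (k, j))) * Ω.cr (Sum.inl (i, k)) := by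
        refine Subtype.ext (funext fun g => ?_)
        rw [AddSubmonoidClass.coe_finsetSum, Finset.sum_apply]
        show ((g : GL n K) : Matrix n n K) i j ^ q = ∑ k, ((Ω.lang g : GL n K) : Matrix n n K) k j *
          ((g : GL n K) : Matrix n n K) i k
        simp only [mul_comm (((Ω.lang g : GL n K) : Matrix n n K) _ j), ← Matrix.mul_apply, ← Units.val_mul]
        rw [show (g : GL n K) * (Ω.lang g : GL n K) = Units.map σ.mapMatrix.toMonoidHom (g : GL n K) from
          mul_inv_cancel_left _ _]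
        simp [hσ]
      rw [e]
      exact Submodule.sum_mem _ fun k _ =>
        Submodule.smul_mem _ (⟨_, _, rfl⟩ : φ.range) (Submodule.subset_span ⟨_, rfl⟩)
    · have e : Ω.cr (Sum.inr (i, j)) ^ q = ∑ k, φ (Ω.cr (Sum.inr (i, k))) * Ω.cr (Sum.inr (k, j)) := by
        refine Subtype.ext (funext fun g => ?_)
        rw [AddSubmonoidClass.coe_finsetSum, Finset.sum_apply]
        show (((g : GL n K)⁻¹ : GL n K) : Matrix n n K) i j ^ q =
          ∑ k, (((Ω.lang g : GL n K)⁻¹ : GL n K) : Matrix n n K) i k * (((g : GL n K)⁻¹ : GL n K) : Matrix n n K) k j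
        rw [← Matrix.mul_apply, ← Units.val_mul,
          show (Ω.lang g : GL n K)⁻¹ * (g : GL n K)⁻¹ = Units.map σ.mapMatrix.toMonoidHom (g : GL n K)⁻¹ from by
            rw [map_inv]; simp [lang]]
        simp [hσ, ← map_inv]
      rw [e]
      exact Submodule.sum_mem _ fun k _ =>
        Submodule.smul_mem _ (⟨_, _, rfl⟩ : φ.range) (Submodule.subset_span ⟨_, rfl⟩)
  have hint : Algebra.IsIntegral φ.range Ω.ring :=
    isIntegral_of_pow_mem_span φ.range Ω.cr Ω.adjoin_cr hq hlin
  have hfin : Algebra.FiniteType K Ω.ring := ⟨⟨(Set.finite_range Ω.cr).toFinset, by simpa using Ω.adjoin_cr⟩⟩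
  have hinj := injective_of_integral trdeg_lt_aleph0_of_finiteType φ hint
  let eφ := AlgEquiv.ofInjective φ hinj
  obtain ⟨ψ, hψ⟩ := exists_point_extends (S := φ.range) Subtype.val_injective hint
    ((Ω.evalAt ⟨m, hm⟩).comp eφ.symm.toAlgHom)
  obtain ⟨g, rfl⟩ := Ω.exists_eq_evalAt ψ
  refine ⟨g, g.2, Units.ext (Matrix.ext fun i j => ?_)⟩
  have := hψ (eφ (Ω.cr (Sum.inl (i, j))))
  simp only [AlgHom.comp_apply, AlgEquiv.coe_algHom, AlgEquiv.symm_apply_apply] at this
  exact this

end Gens

end Group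

end Cfsg.Agent.H67.AlgLang
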