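import Mathlib
import Cfsg.Agent.H67.AlgLang
import Cfsg.Agent.H67.ChevFrob
import Cfsg.Agent.H47.XPoly

set_option autoImplicit false

/-!
# Lang's theorem for Chevalley groups and cyclic twisted tori

The twisted torus of a Weyl group element `w` with characteristic polynomial `P`, having a root `α₀` whose first
`rank` translates under `w` form a basis of the root lattice, is cyclic of order `P(q)` in the unimodular types; a
generator is regular and its centraliser is the torus.
-/

namespace Cfsg.Agent.H67.Chev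

open Cfsg.Lie Cfsg.Agent.H46 Cfsg.Agent.H65
open scoped Matrix MatrixGroups

variable {D : ChevalleyDatum} (G : Good D)

include G in
theorem x_poly {K : Type*} [Field K] {r : ℕ} (hr : r < D.nroots) :
    ∃ P : Matrix D.Idx D.Idx (Polynomial K), ∀ t, (D.x K r t) = P.map (Polynomial.eval t) := by
  refine ⟨Matrix.of fun a b => ((H47.xSP D r).map fun e =>
    if (finSumFinEquiv a : Fin (D.rank + D.nroots)).val = e.1.1 ∧
        (finSumFinEquiv b : Fin (D.rank + D.nroots)).val = e.1.2.1
      then Polynomial.C (e.2 : K) * Polynomial.X ^ e.1.2.2 else 0).sum, fun t => ?_⟩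
  ext a b
  have hneg : D.negIdx.getD r 0 ≠ r := G.neg_ne hr
  have h := congrArg (fun M => M (finSumFinEquiv a) (finSumFinEquiv b))
    (H47.eval_xSP D (F := K) ⟨r, hr⟩ hneg t)
  simp only [H47.toFinMat_apply, H47.SPoly.eval_apply] at h
  rw [ChevalleyDatum.x, dif_pos hr, ← h, Matrix.map_apply, Matrix.of_apply]
  generalize H47.xSP D r = L
  induction L with
  | nil => simp
  | cons e L ih =>
    simp only [List.map_cons, List.sum_cons, Polynomial.eval_add]
    rw [ih]
    congr 1
    split_ifs <;> simp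

/-- The root subgroups as polynomial one-parameter generators. -/
noncomputable def gens {K : Type*} [Field K] (σ : K →+* K) : AlgLang.Gens K D.Idx σ where
  ι := Fin D.nroots
  x r t := G.xg r t
  x_zero r := G.xg_zero r
  x_neg r t := G.xg_inv r t
  x_poly r := by
    obtain ⟨P, hP⟩ := x_poly G (K := K) r.2
    exact ⟨P, fun t => by rw [G.coe_xg]; exact hP t⟩
  x_frob r t := mapGL_xg G σ r t

include G in
theorem gens_group {K : Type*} [Field K] (σ : K →+* K) : (gens G σ).group = D.group K := by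
  refine le_antisymm ((Subgroup.closure_le _).2 ?_) (G.group_le fun r hr t => (gens G σ).x_mem ⟨r, hr⟩ t)
  rintro g ⟨r, t, rfl⟩
  exact G.xg_mem_group _ _

include G in
/-- Lang's theorem for a Chevalley group over an algebraically closed field. -/
theorem lang {K : Type*} [Field K] [IsAlgClosed K] {σ : K →+* K} {q : ℕ} (hq : 2 ≤ q) (hσ : ∀ t, σ t = t ^ q)
    {m : GL D.Idx K} (hm : m ∈ D.group K) : ∃ g ∈ D.group K, g⁻¹ * mapGL D σ g = m := by
  rw [← gens_group G σ] at hm ⊢
  exact (gens G σ).lang_surjective hq hσ hm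

/-! ### Polynomial values -/

/-- Evaluation of a coefficient list, lowest degree first. -/
def evalL : List ℤ → ℤ → ℤ
  | [], _ => 0
  | a :: l, q => a + q * evalL l q

/-- The sum of the absolute values of the coefficients. -/
def normL : List ℤ → ℕ
  | [] => 0
  | a :: l => a.natAbs + normL l

theorem abs_evalL_le {q : ℤ} (hq : 1 ≤ q) : ∀ (a : ℤ) (l : List ℤ),
    |evalL (a :: l) q| ≤ (normL (a :: l) : ℤ) * q ^ l.length
  | a, [] => by simp [evalL, normL]
  | a, b :: l => by
    have ih := abs_evalL_le hq b l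
    have h1 : 1 ≤ q ^ (b :: l).length := one_le_pow₀ hq
    calc |evalL (a :: b :: l) q| ≤ |a| + q * |evalL (b :: l) q| := by
          rw [evalL]; refine (abs_add_le _ _).trans (le_of_eq ?_); rw [abs_mul, abs_of_nonneg (by omega : 0 ≤ q)]
      _ ≤ |a| * q ^ (b :: l).length + q * ((normL (b :: l) : ℤ) * q ^ l.length) := by
          refine add_le_add (le_mul_of_one_le_right (abs_nonneg a) h1) (mul_le_mul_of_nonneg_left ih (by omega))
      _ = _ := by
          rw [show normL (a :: b :: l) = a.natAbs + normL (b :: l) from rfl, Nat.cast_add, Int.natCast_natAbs,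
            List.length_cons, pow_succ]
          ring

theorem evalL_eq_zero {q : ℤ} : ∀ (l : List ℤ), (normL l : ℤ) < q → evalL l q = 0 → ∀ a ∈ l, a = 0
  | [], _, _ => by simp
  | a :: l, hq, h => by
    rw [normL, Nat.cast_add, Int.natCast_natAbs] at hq
    rw [evalL] at h
    have ha : a = 0 := by
      by_contra hne
      have hl : evalL l q ≠ 0 := fun e => hne (by rw [e, mul_zero, add_zero] at h; exact h)
      have h2 : |a| = |q| * |evalL l q| := by rw [← abs_mul, ← abs_neg]; congr 1; omega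
      have h3 : (1 : ℤ) ≤ |evalL l q| := Int.one_le_abs hl
      have h5 : (0 : ℤ) ≤ (normL l : ℤ) := Int.natCast_nonneg _
      have h4 := le_abs_self q
      have h6 : |q| ≤ |q| * |evalL l q| := le_mul_of_one_le_right (abs_nonneg q) h3
      omega
    subst ha
    have hq0 : q ≠ 0 := by have : (0 : ℤ) ≤ (normL l : ℤ) := Int.natCast_nonneg _; simp at hq; omega
    have hl := evalL_eq_zero l (by simpa using hq) (by simpa [hq0] using h)
    intro b hb
    rcases List.mem_cons.1 hb with rfl | hb
    exacts [rfl, hl b hb]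

theorem evalL_map_mul (e q : ℤ) : ∀ l : List ℤ, evalL (l.map fun a => e * a) q = e * evalL l q
  | [] => by simp [evalL]
  | a :: l => by simp [evalL, evalL_map_mul e q l]; ring

theorem evalL_append (l : List ℤ) (a q : ℤ) : evalL (l ++ [a]) q = evalL l q + a * q ^ l.length := by
  induction l with
  | nil => simp [evalL]
  | cons b l ih => simp [evalL, ih, pow_succ]; ring

/-- The value of the monic polynomial with lower coefficients `c`. -/
def polVal (c : List ℤ) (q : ℤ) : ℤ := evalL (c ++ [1]) q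

/-- The monic polynomial with lower coefficients `c` never divides the value of `d`. -/
def NotDvd (c d : List ℤ) : Prop :=
  d.length = c.length ∧ (∃ a ∈ d, a ≠ 0) ∧
    ∀ q ∈ List.range (normL c + normL d + 1), 2 ≤ q → ¬ polVal c (q : ℕ) ∣ evalL d (q : ℕ)

instance (c d : List ℤ) : Decidable (NotDvd c d) := inferInstanceAs (Decidable (_ ∧ _))

theorem not_dvd_of_notDvd {c d : List ℤ} (h : NotDvd c d) {q : ℕ} (hq : 2 ≤ q) :
    ¬ polVal c (q : ℤ) ∣ evalL d (q : ℤ) := by
  obtain ⟨hlen, ⟨x, hx, hx0⟩, hsmall⟩ := h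
  by_cases hlt : q < normL c + normL d + 1
  · exact hsmall q (List.mem_range.2 hlt) hq
  have hne : evalL d (q : ℤ) ≠ 0 := fun e => hx0 (evalL_eq_zero d (by push_cast; omega) e x hx)
  intro hdvd
  have hle := Int.natAbs_le_of_dvd_ne_zero hdvd hne
  obtain ⟨a, d', rfl⟩ := List.exists_cons_of_ne_nil (List.ne_nil_of_mem hx)
  obtain ⟨b, c', rfl⟩ : ∃ b c', c = b :: c' := List.exists_cons_of_ne_nil (fun e => by simp [e] at hlen)
  have hd := abs_evalL_le (q := (q : ℤ)) (by omega) a d'
  have hc := abs_evalL_le (q := (q : ℤ)) (by omega) b c'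
  have hlen' : d'.length = c'.length := by simpa using hlen
  have hP : polVal (b :: c') (q : ℤ) = evalL (b :: c') q + (q : ℤ) ^ (b :: c').length := by
    rw [polVal, evalL_append, one_mul]
  have h1 : |polVal (b :: c') (q : ℤ)| ≤ |evalL (a :: d') (q : ℤ)| := by
    rw [Int.abs_eq_natAbs, Int.abs_eq_natAbs]; exact_mod_cast hle
  have h2 := le_abs_self (polVal (b :: c') (q : ℤ))
  have h3 := neg_abs_le (evalL (b :: c') (q : ℤ))
  rw [hlen'] at hd
  rw [hP, List.length_cons, pow_succ] at h1 h2
  have hpow : (0 : ℤ) < (q : ℤ) ^ c'.length := pow_pos (by omega) _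
  have hbig : ((normL (b :: c') : ℤ) + normL (a :: d') + 1) * (q : ℤ) ^ c'.length ≤ (q : ℤ) * (q : ℤ) ^ c'.length :=
    mul_le_mul_of_nonneg_right (by omega) hpow.le
  nlinarith

/-! ### The data of a cyclic twisted torus -/

/-- A word, a root, exponents and a characteristic polynomial. -/
structure TorusData (D : ChevalleyDatum) where
  /-- the Weyl group word -/
  L : List (Fin D.rank)
  /-- the cyclic root -/
  α₀ : ℕ
  /-- the period -/
  h : ℕ
  /-- coroot exponents of the generator -/
  B : List (List ℤ)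
  /-- the lower coefficients of the characteristic polynomial -/
  c : List ℤ
  /-- the common denominator of the exponents -/
  d : ℕ := 1

namespace TorusData

variable (T : TorusData D)

/-- The image of a root under the word. -/
def act (s : ℕ) : ℕ := T.L.foldr (fun (i : Fin D.rank) x => D.reflectRoot i.val x) s

/-- Coordinate `i` of a root in the orbit basis. -/
def eC (s i : ℕ) : ℤ := ((List.range D.rank).map fun k => (T.B.getD k []).getD i 0 * D.cartan k s).sum / (T.d : ℤ)

/-- The coordinates of a root in the orbit basis. -/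
def eV (s : ℕ) : List ℤ := (List.range D.rank).map (T.eC s)

/-- Multiplication by `X` modulo the polynomial. -/
def shiftRed (e : List ℤ) : List ℤ :=
  (List.range D.rank).map fun i =>
    (if i = 0 then 0 else e.getD (i - 1) 0) - e.getD (D.rank - 1) 0 * T.c.getD i 0

/-- The translates of the cyclic root. -/
def orb : ℕ → ℕ
  | 0 => T.α₀
  | k + 1 => T.act (orb k)

/-- The translates of a root. -/
def orbOf (s : ℕ) : ℕ → ℕ
  | 0 => s
  | k + 1 => T.act (orbOf s k)

end TorusData

/-- The table checks. -/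
structure TorusOk (T : TorusData D) : Prop where
  hα : T.α₀ < D.nroots
  hclen : T.c.length = D.rank
  hc0 : (T.c.getD 0 0).natAbs = 1
  hrank : 0 < D.rank
  shift : ∀ s : Fin D.nroots, T.eV (T.act s) = T.shiftRed (T.eV s)
  unit : T.eV T.α₀ = (List.range D.rank).map fun i => if i = 0 then 1 else 0
  basis : ∀ s : Fin D.nroots, ∀ k : Fin D.rank, G.rc s k = ∑ i : Fin D.rank, T.eC s i * G.rc (T.orb i) k
  cand : ∀ β : Fin D.nroots, (β : ℕ) ∈ (List.range T.h).map T.orb ∨
    (∃ j : Fin D.rank, ∀ s : Fin D.nroots, G.key s ≠ ∑ i : Fin D.rank, T.eC (D.simple j) i * G.key (T.orbOf β i)) ∨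
    NotDvd T.c ((List.zipWith (· - ·) (T.eV β) (T.eV T.α₀)).map fun a => (T.d : ℤ) * a)
  reg : ∀ s : Fin D.nroots, NotDvd T.c (T.eV s)
  free : ∀ k : Fin T.h, (k : ℕ) ≠ 0 →
    NotDvd T.c (List.zipWith (· - ·) (T.eV (T.orb k)) (T.eV T.α₀))

section Torus

variable {G} {T : TorusData D}

/-- The exponent of a root at `q`. -/
def expo (T : TorusData D) (q : ℤ) (s : ℕ) : ℤ := evalL (T.eV s) q

theorem evalL_map_range (f : ℕ → ℤ) (q : ℤ) : ∀ n, evalL ((List.range n).map f) q = ∑ i ∈ Finset.range n, f i * q ^ i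
  | 0 => by simp [evalL]
  | n + 1 => by
    rw [List.range_succ, List.map_append, List.map_singleton, evalL_append, evalL_map_range f q n,
      Finset.sum_range_succ, List.length_map, List.length_range]

theorem evalL_sub (f g : ℕ) (q : ℤ) :
    evalL (List.zipWith (· - ·) (T.eV f) (T.eV g)) q = expo T q f - expo T q g := by
  simp only [expo, TorusData.eV, List.zipWith_map, List.zipWith_self]
  rw [evalL_map_range, evalL_map_range, evalL_map_range, ← Finset.sum_sub_distrib]
  exact Finset.sum_congr rfl fun i _ => sub_mul _ _ _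

theorem expo_eq (q : ℤ) (s : ℕ) : expo T q s = ∑ i : Fin D.rank, T.eC s i * q ^ (i : ℕ) := by
  rw [expo, TorusData.eV, evalL_map_range, ← Fin.sum_univ_eq_sum_range (fun i => T.eC s i * q ^ i)]

theorem eV_getD (s i : ℕ) (hi : i < D.rank) : (T.eV s).getD i 0 = T.eC s i := by
  simp [TorusData.eV, hi]

variable (hT : TorusOk G T)

include hT in
theorem expo_act (q : ℤ) {s : ℕ} (hs : s < D.nroots) :
    expo T q (T.act s) = q * expo T q s - T.eC s (D.rank - 1) * polVal T.c q := by
  obtain ⟨l, hl⟩ : ∃ l, D.rank = l + 1 := ⟨D.rank - 1, by have := hT.hrank; omega⟩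
  rw [expo, hT.shift ⟨s, hs⟩, TorusData.shiftRed, evalL_map_range, expo,
    show evalL (T.eV s) q = ∑ i ∈ Finset.range D.rank, T.eC s i * q ^ i from evalL_map_range _ _ _,
    polVal, evalL_append, hT.hclen]
  have hc : evalL T.c q = ∑ i ∈ Finset.range D.rank, T.c.getD i 0 * q ^ i := by
    rw [← evalL_map_range]
    congr 1
    refine List.ext_getElem (by simp [hT.hclen]) fun i h1 h2 => ?_
    simp [List.getD_eq_getElem?_getD, List.getElem?_eq_getElem h1]
  rw [hc]
  have hlast : D.rank - 1 < D.rank := by omega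
  simp only [sub_mul, Finset.sum_sub_distrib, eV_getD (T := T) s (D.rank - 1) hlast]
  have e1 : ∑ i ∈ Finset.range D.rank, (if i = 0 then (0 : ℤ) else (T.eV s).getD (i - 1) 0) * q ^ i =
      q * ∑ i ∈ Finset.range D.rank, T.eC s i * q ^ i - T.eC s (D.rank - 1) * q ^ D.rank := by
    rw [hl, Finset.sum_range_succ', Finset.sum_range_succ _ l, Nat.add_sub_cancel, if_pos rfl, zero_mul, add_zero,
      mul_add, Finset.mul_sum,
      show q * (T.eC s l * q ^ l) = T.eC s l * q ^ (l + 1) by ring, add_sub_cancel_right]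
    refine Finset.sum_congr rfl fun i hi => ?_
    rw [Finset.mem_range] at hi
    rw [if_neg (Nat.succ_ne_zero i), Nat.add_sub_cancel, eV_getD s i (by omega)]
    ring
  rw [e1, show ∑ i ∈ Finset.range D.rank, T.eC s (D.rank - 1) * T.c.getD i 0 * q ^ i =
    T.eC s (D.rank - 1) * ∑ i ∈ Finset.range D.rank, T.c.getD i 0 * q ^ i by
      rw [Finset.mul_sum]; exact Finset.sum_congr rfl fun i _ => mul_assoc _ _ _]
  ring

include hT in
theorem expo_base (q : ℤ) : expo T q T.α₀ = 1 := by
  rw [expo, hT.unit, evalL_map_range, Finset.sum_eq_single 0 (fun i _ hi => by simp [hi])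
    (by simp [hT.hrank.ne'])]
  simp

theorem act_eq (G : Good D) (s : Fin D.nroots) :
    ((T.L.map G.sPerm).prod s : Fin D.nroots).val = T.act s := by
  unfold TorusData.act
  induction T.L with
  | nil => rfl
  | cons i L ih =>
    rw [List.map_cons, List.prod_cons, Equiv.Perm.mul_apply, List.foldr_cons, G.sPerm_apply, ih]

include hT in
theorem orb_lt : ∀ k, T.orb k < D.nroots
  | 0 => hT.hα
  | k + 1 => by
    have := act_eq (T := T) G ⟨T.orb k, orb_lt k⟩
    show T.act (T.orb k) < _
    rw [← this]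
    exact Fin.isLt _

section Centralizer

variable {K : Type*} [Field K]

include G in
theorem torus_conj_ordProd (z : Fin D.rank → Kˣ) (k : ℕ) (t : ℕ → K) (hk : D.nroots / 2 ≤ k) :
    G.torus z * G.ordProd k t * (G.torus z)⁻¹ = G.ordProd k (fun r => (G.torusVal z r : K) * t r) := by
  induction k using Nat.strongRecMeasure (f := fun k => D.nroots - k) with
  | _ k ih =>
    by_cases hkn : D.nroots ≤ k
    · rw [G.ordProd_of_le hkn, G.ordProd_of_le hkn, mul_one, mul_inv_cancel]
    · have hk' : k < D.nroots := by omega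
      conv_lhs => rw [G.ordProd_succ hk']
      conv_rhs => rw [G.ordProd_succ hk']
      rw [← ih (k + 1) (by omega) (by omega), ← G.torus_conj_xg z hk']
      group

include G in
theorem eq_one_of_torus_fixed (z : Fin D.rank → Kˣ) (hreg : ∀ s, s < D.nroots → G.torusVal z s ≠ 1)
    {u : GL D.Idx K} (hu : u ∈ D.posUnipotent K) (h : G.torus z * u * (G.torus z)⁻¹ = u) : u = 1 := by
  rw [G.posUnipotent_eq] at hu
  obtain ⟨t, ⟨ht, rfl⟩, -⟩ := G.posSub_normal_form G.posClosed_univ hu
  rw [torus_conj_ordProd z _ t le_rfl] at h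
  refine List.prod_eq_one fun g hg => ?_
  obtain ⟨r, hr, rfl⟩ := List.mem_map.1 hg
  rw [List.mem_range'_1] at hr
  have := G.ordProd_injective _ le_rfl _ _ h r hr.1 (by omega)
  have hzero : t r = 0 := by
    by_contra hne
    exact hreg r (by omega) (Units.ext (mul_right_cancel₀ hne (this.trans (one_mul _).symm)))
  rw [hzero, G.xg_zero]

include G in
/-- The centraliser of a regular torus element is monomial and fixes the values. -/
theorem regular_centralizer (z : Fin D.rank → Kˣ) (hreg : ∀ s, s < D.nroots → G.torusVal z s ≠ 1)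
    {m : GL D.Idx K} (hm : m ∈ D.group K) (hc : G.torus z * m = m * G.torus z) :
    m ∈ D.monomialSubgroup K ∧ ∀ s : Fin D.nroots, G.torusVal z (G.perm m s) = G.torusVal z s := by
  obtain ⟨L, v, d, u, hv, hd, hu, rfl⟩ := exists_standard_form G hm
  set n : GL D.Idx K := G.nProd L
  have hN : n ∈ D.monomialSubgroup K := G.nProd_mem L
  set h := G.torus z
  have hh : h ∈ D.diagonalSubgroup K := G.mem_diagonal.2 ⟨z, rfl⟩
  have hhn : n⁻¹ * h * n ∈ D.diagonalSubgroup K := by
    simpa using G.diagonal_normalized (inv_mem hN) hh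
  have hv' : h * v * h⁻¹ ∈ D.posUnipotent K := G.conj_posUnipotent (Subgroup.mem_sup_right hh) hv
  have hu' : h * u * h⁻¹ ∈ G.posSub (G.invSet n) := by
    have hN' := G.torus_mem_normalizer_gen (F := K) (S := fun r => D.IsPosRoot r ∧ r ∈ G.invSet n)
      (fun r h => h.1.1) z
    have e : G.posSub (F := K) (G.invSet n) = Subgroup.closure {g : GL D.Idx K | ∃ (r : ℕ) (t : K),
        (D.IsPosRoot r ∧ r ∈ G.invSet n) ∧ (g : Matrix D.Idx D.Idx K) = D.x K r t} := by
      refine le_antisymm (Subgroup.closure_mono ?_) ((Subgroup.closure_le _).2 ?_)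
      · rintro g ⟨r, t, h, rfl⟩; exact ⟨r, t, h, G.coe_xg r t⟩
      · rintro g ⟨r, t, h, hg⟩; rw [G.eq_xg hg]; exact G.xg_mem_posSub h.1 h.2 t
    rw [e] at hu ⊢
    exact (Subgroup.mem_normalizer_iff.1 hN' u).1 hu
  have e : (h * v * h⁻¹) * (h * d * h⁻¹ * (h * (n * h⁻¹ * n⁻¹))) * n * (h * u * h⁻¹) = v * d * n * u := by
    calc _ = h * (v * d * n * u) * h⁻¹ := by group
      _ = _ := by rw [hc, mul_inv_cancel_right]
  have hd' : h * d * h⁻¹ * (h * (n * h⁻¹ * n⁻¹)) ∈ D.diagonalSubgroup K :=
    mul_mem (mul_mem (mul_mem hh hd) (inv_mem hh)) (mul_mem hh (G.diagonal_normalized hN (inv_mem hh)))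
  obtain ⟨-, hu2, hb⟩ := G.bruhat_unique (mul_mem (Subgroup.mem_sup_left hv') (Subgroup.mem_sup_right hd'))
    (mul_mem (Subgroup.mem_sup_left hv) (Subgroup.mem_sup_right hd)) hN hN hu' hu e
  have hb' := hb rfl
  have hu1 : u = 1 := eq_one_of_torus_fixed z hreg (G.posSub_le_posUnipotent _ hu) hu2
  have hv2 : h * v * h⁻¹ = v := by
    have h1 := (Subgroup.eq_bot_iff_forall _).1 (G.posUnipotent_inf_diagonal (F := K)) (v⁻¹ * (h * v * h⁻¹))
      (Subgroup.mem_inf.2 ⟨mul_mem (inv_mem hv) hv', by
        rw [show v⁻¹ * (h * v * h⁻¹) = d * (h * d * h⁻¹ * (h * (n * h⁻¹ * n⁻¹)))⁻¹ from by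
          rw [eq_mul_inv_iff_mul_eq, mul_assoc v⁻¹, hb', inv_mul_cancel_left]]
        exact mul_mem hd (inv_mem hd')⟩)
    exact (inv_mul_eq_one.1 h1).symm
  have hv1 : v = 1 := eq_one_of_torus_fixed z hreg hv hv2
  subst hv1 hu1
  rw [one_mul, mul_one] at hc ⊢
  have hmN : d * n ∈ D.monomialSubgroup K := mul_mem (Subgroup.mem_sup_left hd) hN
  refine ⟨hmN, fun s => ?_⟩
  obtain ⟨c, hcx⟩ := G.conj_xg_eq hmN s
  have h1 : h * (d * n * G.xg s 1 * (d * n)⁻¹) * h⁻¹ = d * n * (h * G.xg s 1 * h⁻¹) * (d * n)⁻¹ := by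
    calc _ = (h * (d * n)) * G.xg s 1 * (h * (d * n))⁻¹ := by group
      _ = _ := by rw [hc]; group
  rw [hcx, G.torus_conj_xg z (Fin.isLt _), G.torus_conj_xg z s.2, hcx, mul_one, mul_one] at h1
  have := G.xg_injective (Fin.isLt _) h1
  exact Units.ext (mul_right_cancel₀ c.ne_zero (this.trans (mul_comm _ _)))

end Centralizer

section Twist

variable {K : Type*} [Field K] {σ : K →+* K} {q N : ℕ} {ζ : Kˣ} {z : Fin D.rank → Kˣ}

theorem torusVal_pow (G : Good D) (z : Fin D.rank → Kˣ) (s : ℕ) (j : ℕ) :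
    G.torusVal (z ^ j) s = G.torusVal z s ^ j := by
  induction j with
  | zero => rw [pow_zero, pow_zero, G.torusVal_one]
  | succ j ih => rw [pow_succ, pow_succ, G.torusVal_mul, ih]

/-- Conjugation by a monomial element on torus elements is read off the root values. -/
theorem torusVal_conj {n : GL D.Idx K} (hnN : n ∈ D.monomialSubgroup K) (y w : Fin D.rank → Kˣ) (s : Fin D.nroots)
    (hw : n * G.torus y * n⁻¹ = G.torus w) : G.torusVal w (G.perm n s) = G.torusVal y s := by
  obtain ⟨c, hcx⟩ := G.conj_xg_eq hnN s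
  have h1 : n * (G.torus y * G.xg s 1 * (G.torus y)⁻¹) * n⁻¹ =
      G.torus w * (n * G.xg s 1 * n⁻¹) * (G.torus w)⁻¹ := by rw [← hw]; group
  rw [G.torus_conj_xg y s.2, hcx, hcx, G.torus_conj_xg w (Fin.isLt _), mul_one, mul_one] at h1
  exact Units.ext (mul_left_cancel₀ c.ne_zero ((G.xg_injective (Fin.isLt _) h1).trans (mul_comm _ _))).symm

include hT in
/-- The torus element with values a primitive root raised to the exponents is fixed by the twisted map. -/
theorem twist_fixed (hσ : ∀ x, σ x = x ^ q) (hN : (N : ℤ) = polVal T.c q) (hζ : IsPrimitiveRoot ζ N)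
    (hval : ∀ s, s < D.nroots → G.torusVal z s = ζ ^ expo T q s) :
    G.nProd T.L * mapGL D σ (G.torus z) * (G.nProd T.L)⁻¹ = G.torus z := by
  have hζpow : ∀ a b : ℤ, (N : ℤ) ∣ a - b → ζ ^ a = ζ ^ b := fun a b hab => by
    rw [← sub_add_cancel a b, zpow_add, (hζ.zpow_eq_one_iff_dvd _).2 hab, one_mul]
  set n : GL D.Idx K := G.nProd T.L
  have hnN : n ∈ D.monomialSubgroup K := G.nProd_mem T.L
  have hperm : ∀ s : Fin D.nroots, (G.perm n s).val = T.act s := fun s => by
    rw [G.perm_nProd]; exact act_eq G s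
  set t := G.torus z
  have hzpow : ∀ s, s < D.nroots → G.torusVal z (T.act s) = G.torusVal z s ^ q := by
    intro s hs
    have hs' : T.act s < D.nroots := (hperm ⟨s, hs⟩) ▸ Fin.isLt _
    rw [hval s hs, hval _ hs', ← zpow_natCast (ζ ^ expo T q s) q, ← zpow_mul]
    refine hζpow _ _ ⟨-T.eC s (D.rank - 1), ?_⟩
    rw [expo_act hT (q : ℤ) hs, hN]
    ring
  have hσt : mapGL D σ t = G.torus fun k => z k ^ q := by
    rw [mapGL_torus G]
    congr 1
    funext k
    exact Units.ext (by simpa using hσ (z k : K))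
  obtain ⟨w, hw⟩ := G.mem_diagonal.1 (G.diagonal_normalized hnN (G.mem_diagonal.2 ⟨_, hσt⟩))
  rw [hw]
  have key : ∀ s : Fin D.nroots, G.torusVal w (G.perm n s) = G.torusVal z (G.perm n s) := fun s => by
    rw [torusVal_conj hnN _ w s (by rw [← hσt]; exact hw), hperm, hzpow s s.2]
    simp only [Good.torusVal, ← Finset.prod_pow]
    exact Finset.prod_congr rfl fun k _ => by
      simp only [← zpow_natCast, ← zpow_mul]
      congr 1
      ring
  have h1 : w / z ∈ (G.torus (F := K)).ker := by
    rw [MonoidHom.mem_ker, G.torus_eq_one_iff]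
    intro s hs
    obtain ⟨s', hs'⟩ := (G.perm n).surjective ⟨s, hs⟩
    have hk := key s'
    rw [hs'] at hk
    have := G.torusVal_mul (w / z) z s
    rw [div_mul_cancel] at this
    rw [hk] at this
    exact mul_eq_right.1 this.symm
  rw [MonoidHom.mem_ker, map_div, div_eq_one] at h1
  exact h1

include hT in
/-- A twisted element commuting with a regular power of the torus element is a power of it. -/
theorem twisted_centralizer (hσ : ∀ x, σ x = x ^ q) (hN : (N : ℤ) = polVal T.c q) (hNpos : 0 < N)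
    (hζ : IsPrimitiveRoot ζ N) (hval : ∀ s, s < D.nroots → G.torusVal z s = ζ ^ expo T q s) (j : ℕ)
    (hreg : ∀ s : Fin D.nroots, ¬ (N : ℤ) ∣ expo T q s * j)
    (hq : 2 ≤ q) (hjd : j ∣ T.d) (hfree : ∀ k : Fin T.h, (k : ℕ) ≠ 0 → ¬ (N : ℤ) ∣ (expo T q (T.orb k) - expo T q T.α₀) * j)
    {m : GL D.Idx K} (hmG : m ∈ D.group K) (hc : G.torus z ^ j * m = m * G.torus z ^ j)
    (hσm : mapGL D σ m = (G.nProd T.L)⁻¹ * m * G.nProd T.L) : ∃ k : ℕ, m = G.torus z ^ k := by
  classical
  have hζ₀ : IsPrimitiveRoot (ζ : K) N := IsPrimitiveRoot.coe_units_iff.2 hζ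
  have hvalj : ∀ s, s < D.nroots → G.torusVal (z ^ j) s = ζ ^ (expo T q s * j) := fun s hs => by
    rw [torusVal_pow, hval s hs, zpow_mul, zpow_natCast]
  rw [← map_pow] at hc
  obtain ⟨hmN, hmval⟩ := regular_centralizer (z ^ j) (fun s hs h => hreg ⟨s, hs⟩ (by
    rw [hvalj s hs] at h
    exact (hζ.zpow_eq_one_iff_dvd _).1 h)) hmG hc
  set n : GL D.Idx K := G.nProd T.L
  have hnN : n ∈ D.monomialSubgroup K := G.nProd_mem T.L
  have hperm : ∀ s : Fin D.nroots, (G.perm n s).val = T.act s := fun s => by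
    rw [G.perm_nProd]; exact act_eq G s
  -- the permutation of `m` commutes with that of `n`
  have hπσ : G.perm (mapGL D σ m) = G.perm m := by
    obtain ⟨L', d, hd, e⟩ := G.exists_word hmN
    rw [e, map_mul, mapGL_nProd G, G.perm_mul (G.nProd_mem L') (Subgroup.mem_sup_left (mapGL_diagonal G σ hd)),
      G.perm_mul (G.nProd_mem L') (Subgroup.mem_sup_left hd), G.perm_diagonal hd,
      G.perm_diagonal (mapGL_diagonal G σ hd)]
  have hπw : ∀ s, G.perm m (G.perm n s) = G.perm n (G.perm m s) := by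
    have h1 := hπσ
    rw [hσm, G.perm_mul (mul_mem (inv_mem hnN) hmN) hnN, G.perm_mul (inv_mem hnN) hmN, G.perm_inv hnN,
      mul_assoc, inv_mul_eq_iff_eq_mul] at h1
    exact fun s => Equiv.congr_fun h1 s
  set β := G.perm m ⟨T.α₀, hT.hα⟩
  have horb : ∀ i, (G.perm m ⟨T.orb i, orb_lt hT i⟩ : Fin D.nroots).val = T.orbOf β i := by
    intro i
    induction i with
    | zero => rfl
    | succ i ih =>
      have e : (⟨T.orb (i + 1), orb_lt hT (i + 1)⟩ : Fin D.nroots) = G.perm n ⟨T.orb i, orb_lt hT i⟩ :=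
        Fin.ext (hperm ⟨T.orb i, orb_lt hT i⟩).symm
      rw [e, hπw, hperm, ih]
      rfl
  obtain ⟨-, -, Lm, hLm⟩ := G.monRel_perm hmN
  have hlin : ∀ s : Fin D.nroots, G.rc (G.perm m s) =
      ∑ i : Fin D.rank, T.eC s i • G.rc (T.orbOf β i) := by
    intro s
    have e : G.rc s = ∑ i : Fin D.rank, T.eC s i • G.rc (T.orb i) := by
      funext k
      simpa [Finset.sum_apply] using hT.basis s k
    rw [hLm, e, map_sum]
    refine Finset.sum_congr rfl fun i _ => ?_
    rw [map_smul, ← hLm ⟨T.orb i, orb_lt hT i⟩, horb]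
  have hβ : β = ⟨T.α₀, hT.hα⟩ := by
    rcases hT.cand β with hmem | ⟨i₀, hj⟩ | hnd
    · obtain ⟨k, hk, hkβ⟩ := List.mem_map.1 hmem
      rw [List.mem_range] at hk
      by_cases hk0 : k = 0
      · exact Fin.ext (by rw [← hkβ, hk0]; rfl)
      exfalso
      have h1 := hmval ⟨T.α₀, hT.hα⟩
      rw [hvalj _ (Fin.isLt _), hvalj _ hT.hα, ← hkβ] at h1
      have h2 : ζ ^ (expo T q (T.orb k) * j - expo T q T.α₀ * j) = 1 := by rw [zpow_sub, h1, mul_inv_cancel]
      rw [hζ.zpow_eq_one_iff_dvd, ← sub_mul] at h2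
      exact hfree ⟨k, hk⟩ hk0 h2
    · exfalso
      refine hj (G.perm m (G.simpleF i₀)) ?_
      have e : G.rc (G.perm m (G.simpleF i₀)) =
          ∑ i : Fin D.rank, T.eC (D.simple i₀) i • G.rc (T.orbOf β i) := hlin (G.simpleF i₀)
      have hk : ∀ (S : Finset (Fin D.rank)) (f : Fin D.rank → ℤ) (v : Fin D.rank → ℕ),
          keyR (fun k => if h : k < D.rank then (∑ i ∈ S, f i • G.rc (v i)) ⟨k, h⟩ else 0) D.rank =
            ∑ i ∈ S, f i * G.key (v i) := by
        intro S f v
        induction S using Finset.induction_on with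
        | empty =>
          rw [keyR_congr (g := fun k => (0 : ℤ) * G.tab.coord 0 k + 0 * G.tab.coord 0 k) (fun k hk => by simp [hk]),
            keyR_add_smul]
          simp
        | insert b S hb ih =>
          rw [Finset.sum_insert hb, Finset.sum_insert hb, ← ih, Good.key,
            show ∀ X Y : ℤ, f b * X + Y = f b * X + 1 * Y from fun X Y => by ring, ← keyR_add_smul]
          refine keyR_congr fun k hk => ?_
          simp [hk, Good.rc]
      rw [← hk, ← e, Good.key]
      exact keyR_congr fun k hk => by simp [hk, Good.rc]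
    · exfalso
      refine not_dvd_of_notDvd hnd hq ?_
      have h1 := hmval ⟨T.α₀, hT.hα⟩
      rw [hvalj _ (Fin.isLt _), hvalj _ hT.hα] at h1
      have h2 : ζ ^ (expo T q β * j - expo T q T.α₀ * j) = 1 := by rw [zpow_sub, h1, mul_inv_cancel]
      rw [hζ.zpow_eq_one_iff_dvd, ← sub_mul] at h2
      rw [evalL_map_mul, evalL_sub, ← hN, mul_comm]
      exact h2.trans (mul_dvd_mul_left _ (Int.natCast_dvd_natCast.2 hjd))
  have hπ1 : G.perm m = 1 := by
    refine Equiv.ext fun s => Fin.ext (G.rc_injective (Fin.isLt _) s.2 ?_)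
    rw [hlin]
    funext k
    rw [Equiv.Perm.one_apply, hT.basis s k, Finset.sum_apply]
    refine Finset.sum_congr rfl fun i _ => ?_
    have e : T.orbOf β i = T.orb i := by
      rw [hβ]
      show T.orbOf T.α₀ i = T.orb i
      induction (i : ℕ) with
      | zero => rfl
      | succ j ih => show T.act _ = T.act _; rw [ih]
    simp [e]
  obtain ⟨z', hz'⟩ := G.mem_diagonal.1 ((G.perm_eq_one_iff hmN).1 hπ1)
  have hnm : n * mapGL D σ m * n⁻¹ = m := by rw [hσm]; group
  have hz'act : ∀ s : Fin D.nroots, G.torusVal z' (G.perm n s) = G.torusVal z' s ^ q := by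
    intro s
    rw [hz', mapGL_torus G] at hnm
    rw [torusVal_conj hnN _ z' s hnm]
    simp only [Good.torusVal, ← Finset.prod_pow]
    refine Finset.prod_congr rfl fun k _ => ?_
    have e : Units.map σ.toMonoidHom (z' k) = z' k ^ q := Units.ext (by simpa using hσ (z' k : K))
    rw [e, ← zpow_natCast, ← zpow_natCast, ← zpow_mul, ← zpow_mul, mul_comm]
  set u := G.torusVal z' T.α₀
  have hu : ∀ i, G.torusVal z' (T.orb i) = u ^ q ^ i := by
    intro i
    induction i with
    | zero => rw [pow_zero, pow_one]; rfl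
    | succ i ih =>
      have e := hz'act ⟨T.orb i, orb_lt hT i⟩
      rw [hperm] at e
      show G.torusVal z' (T.act (T.orb i)) = _
      rw [e, ih, ← pow_mul, ← pow_succ]
  have hexp : ∀ s : Fin D.nroots, G.torusVal z' s = u ^ expo T q s := by
    intro s
    have key : ∀ k : Fin D.rank, z' k ^ G.cartForm k (G.rc s) =
        ∏ i : Fin D.rank, (z' k ^ G.cartForm k (G.rc (T.orb i))) ^ T.eC s i := by
      intro k
      have e : G.cartForm k (G.rc s) = ∑ i : Fin D.rank, T.eC s i * G.cartForm k (G.rc (T.orb i)) := by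
        simp only [Good.cartForm, hT.basis s, Finset.sum_mul, Finset.mul_sum]
        rw [Finset.sum_comm]
        exact Finset.sum_congr rfl fun i _ => Finset.sum_congr rfl fun j _ => by ring
      rw [e]
      generalize (Finset.univ : Finset (Fin D.rank)) = S
      induction S using Finset.induction_on with
      | empty => simp
      | insert b S hb ih => rw [Finset.sum_insert hb, Finset.prod_insert hb, zpow_add, ih, ← zpow_mul, mul_comm (T.eC s b)]
    have e2 : G.torusVal z' s = ∏ i : Fin D.rank, G.torusVal z' (T.orb i) ^ T.eC s i := by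
      simp only [Good.torusVal, key]
      rw [Finset.prod_comm]
      exact Finset.prod_congr rfl fun i _ => Finset.prod_zpow _ _ _
    rw [e2, expo_eq]
    generalize (Finset.univ : Finset (Fin D.rank)) = S
    induction S using Finset.induction_on with
    | empty => simp
    | insert b S hb ih =>
      rw [Finset.prod_insert hb, Finset.sum_insert hb, zpow_add, ih, hu, ← zpow_natCast, ← zpow_mul,
        Nat.cast_pow, mul_comm ((q : ℤ) ^ (b : ℕ))]
  have huN : u ^ N = 1 := by
    obtain ⟨l, hl⟩ : ∃ l, D.rank = l + 1 := ⟨D.rank - 1, by have := hT.hrank; omega⟩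
    have hlast : ∀ i, i < D.rank → ∀ j, j < D.rank → T.eC (T.orb i) j = if j = i then 1 else 0 := by
      intro i
      induction i with
      | zero =>
        intro _ j hj
        have := congrArg (fun L => L.getD j 0) hT.unit
        simp only [eV_getD _ j hj] at this
        show T.eC T.α₀ j = _
        simpa [hj] using this
      | succ i ih =>
        intro hi j hj
        have := congrArg (fun L => L.getD j 0) (hT.shift ⟨T.orb i, orb_lt hT i⟩)
        simp only [eV_getD _ j hj] at this
        show T.eC (T.act (T.orb i)) j = _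
        rw [this, TorusData.shiftRed]
        simp only [List.getD_eq_getElem?_getD, List.getElem?_map, List.getElem?_range hj, Option.map_some,
          Option.getD_some]
        rw [← List.getD_eq_getElem?_getD, ← List.getD_eq_getElem?_getD, eV_getD _ _ (by omega : D.rank - 1 < D.rank),
          ih (by omega) _ (by omega : D.rank - 1 < D.rank), if_neg (by omega : ¬ D.rank - 1 = i), zero_mul, sub_zero]
        by_cases hj0 : j = 0
        · simp [hj0]
        · rw [if_neg hj0, eV_getD _ _ (by omega : j - 1 < D.rank), ih (by omega) (j - 1) (by omega)]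
          by_cases h' : j = i + 1
          · rw [if_pos h', if_pos (by omega)]
          · rw [if_neg h', if_neg (by omega)]
    have hlt := orb_lt hT D.rank
    have h1 := hexp ⟨T.orb D.rank, hlt⟩
    have e : expo T q (T.orb D.rank) = ((q ^ D.rank : ℕ) : ℤ) - N := by
      rw [hl]
      show expo T q (T.act (T.orb l)) = _
      rw [expo_act hT _ (orb_lt hT l), hlast l (by omega) _ (by omega), if_pos (by omega), one_mul, ← hN, expo_eq,
        Finset.sum_eq_single ⟨l, by omega⟩ (fun j _ hj => by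
          rw [hlast l (by omega) j j.2, if_neg (fun h => hj (Fin.ext h)), zero_mul]) (by simp),
        hlast l (by omega) l (by omega), if_pos rfl]
      push_cast
      ring
    rw [hu] at h1
    rw [← zpow_natCast u, e, zpow_sub] at h1
    simpa using h1.symm
  have : NeZero N := ⟨hNpos.ne'⟩
  obtain ⟨k, -, hk⟩ := hζ₀.eq_pow_of_pow_eq_one (ξ := (u : K)) (by rw [← Units.val_pow_eq_pow_val, huN]; rfl)
  have hk' : u = ζ ^ k := Units.ext (by rw [← hk]; simp)
  have hmt : m = G.torus z ^ k := by
    rw [hz', ← map_pow, ← div_eq_one, ← map_div, G.torus_eq_one_iff]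
    intro s hs
    have hpw : ∀ j : ℕ, G.torusVal (z ^ j) s = G.torusVal z s ^ j := fun j => by
      induction j with
      | zero => rw [pow_zero, pow_zero, G.torusVal_one]
      | succ j ih => rw [pow_succ, pow_succ, G.torusVal_mul, ih]
    have h1 : G.torusVal z' s = G.torusVal (z ^ k) s := by
      rw [hpw, hexp ⟨s, hs⟩, hval s hs, hk', ← zpow_natCast, ← zpow_natCast, ← zpow_mul, ← zpow_mul, mul_comm]
    have := G.torusVal_mul (z' / z ^ k) (z ^ k) s
    rw [div_mul_cancel] at this
    rw [h1] at this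
    exact mul_eq_right.1 this.symm
  exact ⟨k, hmt⟩

end Twist


include hT in
/-- A self-centralising cyclic subgroup of order `P(q)`. -/
theorem exists_cyclic_self_centralizing (hU : Unimod D G.tab) {F : Type*} [Field F] [Fintype F] (q : ℕ)
    (hF : Fintype.card F = q) (N : ℕ) (hN : (N : ℤ) = polVal T.c q) (hNpos : 0 < N) (hd : T.d = 1 := by rfl) :
    ∃ H : Subgroup ↥(D.group F), IsCyclic ↥H ∧ Nat.card ↥H = N ∧
      Subgroup.centralizer (H : Set ↥(D.group F)) = H := by
  classical
  subst hF
  set q := Fintype.card F with hqdef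
  have hq : 2 ≤ q := Fintype.one_lt_card
  let K := AlgebraicClosure F
  let ι := algebraMap F K
  obtain ⟨p, hp⟩ := CharP.exists F
  have hpprime : p.Prime := CharP.char_is_prime F p
  have : Fact p.Prime := ⟨hpprime⟩
  have : CharP K p := charP_of_injective_algebraMap ι.injective p
  obtain ⟨a, -, ha⟩ := FiniteField.card F p
  let σ : K ≃+* K := iterateFrobeniusEquiv K p a
  have hσ : ∀ x, σ x = x ^ q := fun x => by
    rw [hqdef, ha]; exact iterateFrobeniusEquiv_def K p a x
  have hfix : ∀ x, σ x = x ↔ x ∈ Set.range ι := by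
    intro x
    rw [hσ]
    constructor
    · intro hx
      by_contra hne
      let S : Finset K := insert x (Finset.univ.image ι)
      have hcard : q + 1 ≤ S.card := by
        rw [Finset.card_insert_of_notMem, Finset.card_image_of_injective _ ι.injective, Finset.card_univ]
        simpa using hne
      have hroots : S ⊆ (Polynomial.X ^ q - Polynomial.X : Polynomial K).roots.toFinset := by
        intro y hy
        rw [Multiset.mem_toFinset, Polynomial.mem_roots (FiniteField.X_pow_card_sub_X_ne_zero K hq)]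
        rcases Finset.mem_insert.1 hy with rfl | hy
        · simp [hx]
        · obtain ⟨z, -, rfl⟩ := Finset.mem_image.1 hy
          simp [← map_pow, hqdef, FiniteField.pow_card]
      have := (Finset.card_le_card hroots).trans ((Multiset.toFinset_card_le _).trans
        (Polynomial.card_roots' _))
      rw [FiniteField.X_pow_card_sub_X_natDegree_eq K hq] at this
      omega
    · rintro ⟨z, rfl⟩
      rw [← map_pow, hqdef, FiniteField.pow_card]
  -- a primitive root of unity of order `N`
  have hNK : (N : K) ≠ 0 := by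
    have hdvd : (p : ℤ) ∣ polVal T.c q - T.c.getD 0 0 := by
      obtain ⟨b, c', hc'⟩ : ∃ b c', T.c = b :: c' := List.exists_cons_of_ne_nil
        (fun e => by have := hT.hclen; have := hT.hrank; simp [e] at *; omega)
      rw [hc', polVal, List.cons_append, evalL, List.getD_cons_zero, add_sub_cancel_left]
      refine dvd_mul_of_dvd_left (Int.natCast_dvd_natCast.2 ?_) _
      show p ∣ Fintype.card F
      rw [ha]
      exact dvd_pow_self p a.ne_zero
    rw [Ne, CharP.cast_eq_zero_iff K p]
    intro h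
    have h1 : (p : ℤ) ∣ T.c.getD 0 0 := by
      have := dvd_sub (hN ▸ Int.natCast_dvd_natCast.2 h : (p : ℤ) ∣ polVal T.c q) hdvd
      rwa [sub_sub_cancel] at this
    have := Int.natAbs_dvd_natAbs.2 h1
    rw [hT.hc0, Int.natAbs_natCast, Nat.dvd_one] at this
    exact hpprime.ne_one this
  have : NeZero (N : K) := ⟨hNK⟩
  obtain ⟨ζ₀, hζ₀⟩ := HasEnoughRootsOfUnity.exists_primitiveRoot K N
  obtain ⟨ζ, rfl⟩ : IsUnit ζ₀ := hζ₀.isUnit hNpos.ne'
  have hζ : IsPrimitiveRoot ζ N := IsPrimitiveRoot.coe_units_iff.1 hζ₀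
  have hζpow : ∀ a b : ℤ, (N : ℤ) ∣ a - b → ζ ^ a = ζ ^ b := fun a b hab => by
    rw [← sub_add_cancel a b, zpow_add, (hζ.zpow_eq_one_iff_dvd _).2 hab, one_mul]
  let z : Fin D.rank → Kˣ := fun k =>
    ζ ^ (∑ i : Fin D.rank, (T.B.getD k []).getD i 0 * (q : ℤ) ^ (i : ℕ))
  have hval : ∀ s, s < D.nroots → G.torusVal z s = ζ ^ expo T q s := by
    intro s hs
    simp only [Good.torusVal, z, ← zpow_mul]
    rw [Finset.prod_congr rfl fun k (_ : k ∈ Finset.univ) => by rw [← G.cartan_eq hs k.2]]
    have hsum : ∀ (S : Finset (Fin D.rank)) (f : Fin D.rank → ℤ), (∏ k ∈ S, ζ ^ f k) = ζ ^ ∑ k ∈ S, f k := by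
      intro S f
      induction S using Finset.induction_on with
      | empty => simp
      | insert b S hb ih => rw [Finset.prod_insert hb, Finset.sum_insert hb, zpow_add, ih]
    rw [hsum, expo_eq]
    congr 1
    have e : ∀ i, T.eC s i = ∑ k : Fin D.rank, (T.B.getD k []).getD i 0 * D.cartan k s := fun i => by
      rw [TorusData.eC, hd, Nat.cast_one, Int.ediv_one, Fin.sum_univ_eq_sum_range (fun k => (T.B.getD k []).getD i 0 * D.cartan k s)]
      rfl
    simp only [e, Finset.sum_mul]
    rw [Finset.sum_comm]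
    exact Finset.sum_congr rfl fun i _ => Finset.sum_congr rfl fun k _ => by ring
  set n : GL D.Idx K := G.nProd T.L
  have hnN : n ∈ D.monomialSubgroup K := G.nProd_mem T.L
  set t := G.torus z
  have htwist : n * mapGL D (σ : K →+* K) t * n⁻¹ = t :=
    twist_fixed hT (fun x => hσ x) hN hζ hval
  have hnG : n ∈ D.group K := G.monomial_le_group hnN
  obtain ⟨g, hg, hgn⟩ := lang G hq (σ := (σ : K →+* K)) (fun x => hσ x) hnG
  have hσg : mapGL D (σ : K →+* K) g = g * n := by rw [← hgn, mul_inv_cancel_left]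
  have htG : t ∈ D.group K := G.diagonal_le_group (G.mem_diagonal.2 ⟨z, rfl⟩)
  have hx0fix : mapGL D (σ : K →+* K) (g * t * g⁻¹) = g * t * g⁻¹ := by
    rw [map_mul, map_mul, map_inv, hσg]
    calc g * n * mapGL D (σ : K →+* K) t * (g * n)⁻¹ = g * (n * mapGL D (σ : K →+* K) t * n⁻¹) * g⁻¹ := by group
      _ = _ := by rw [htwist]
  obtain ⟨x, hx, hxe⟩ := group_fixed G ι σ hU hfix (mul_mem (mul_mem hg htG) (inv_mem hg)) hx0fix
  set x' : ↥(D.group F) := ⟨x, hx⟩
  have hxpow : ∀ k : ℕ, mapGL D ι ((x' ^ k : ↥(D.group F)) : GL D.Idx F) = g * t ^ k * g⁻¹ := fun k => by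
    rw [SubgroupClass.coe_pow, map_pow, hxe, conj_pow]
  have htpow : ∀ k : ℕ, t ^ k = 1 ↔ N ∣ k := by
    intro k
    have hpw : ∀ s, G.torusVal (z ^ k) s = G.torusVal z s ^ k := fun s => by
      induction k with
      | zero => rw [pow_zero, pow_zero, G.torusVal_one]
      | succ k ih => rw [pow_succ, pow_succ, G.torusVal_mul, ih]
    rw [← map_pow, G.torus_eq_one_iff]
    constructor
    · intro h
      have := h T.α₀ hT.hα
      rw [hpw, hval _ hT.hα, expo_base hT, zpow_one] at this
      exact hζ.dvd_of_pow_eq_one k this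
    · rintro ⟨j, rfl⟩ s hs
      rw [hpw, hval s hs, ← zpow_natCast (ζ ^ _), ← zpow_mul]
      exact (hζ.zpow_eq_one_iff_dvd _).2 ⟨expo T q s * j, by push_cast; ring⟩
  have hord : orderOf x' = N := by
    refine Nat.dvd_antisymm ?_ ((htpow _).1 ?_)
    · rw [orderOf_dvd_iff_pow_eq_one]
      refine Subtype.ext (mapGL_injective ι ?_)
      rw [hxpow, (htpow N).2 dvd_rfl, mul_one, mul_inv_cancel]
      simp
    · have h1 := hxpow (orderOf x')
      rw [pow_orderOf_eq_one, OneMemClass.coe_one, map_one] at h1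
      exact conj_eq_one_iff.1 h1.symm
  refine ⟨Subgroup.zpowers x', inferInstance, by rw [Nat.card_zpowers, hord], le_antisymm ?_ ?_⟩
  swap
  · rintro y ⟨k, rfl⟩
    refine Subgroup.mem_centralizer_iff.2 ?_
    rintro _ ⟨j, rfl⟩
    exact (Commute.zpow_zpow_self x' j k).eq
  intro y hy
  have hcomm : x' * y = y * x' := Subgroup.mem_centralizer_iff.1 hy x' (Subgroup.mem_zpowers x')
  set Y := mapGL D ι (y : GL D.Idx F) with hYdef
  have hYG : Y ∈ D.group K := mapGL_mem_group ι y.2
  have hYfix : mapGL D (σ : K →+* K) Y = Y :=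
    Units.ext (Matrix.ext fun i j => (hfix _).2 ⟨_, rfl⟩)
  set m := g⁻¹ * Y * g with hmdef
  have hmG : m ∈ D.group K := mul_mem (mul_mem (inv_mem hg) hYG) hg
  have hmc : t * m = m * t := by
    have h1 : (g * t * g⁻¹) * Y = Y * (g * t * g⁻¹) := by
      rw [← hxe, ← map_mul, ← map_mul]
      exact congrArg (fun w : ↥(D.group F) => mapGL D ι (w : GL D.Idx F)) hcomm
    calc t * m = g⁻¹ * ((g * t * g⁻¹) * Y) * g := by rw [hmdef]; group
      _ = g⁻¹ * (Y * (g * t * g⁻¹)) * g := by rw [h1]
      _ = _ := by rw [hmdef]; group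
  have hσm : mapGL D (σ : K →+* K) m = n⁻¹ * m * n := by
    rw [hmdef, map_mul, map_mul, map_inv, hσg, hYfix]; group
  obtain ⟨k, hmt⟩ := twisted_centralizer (j := 1) hT (fun x => hσ x) hN hNpos hζ hval
    (fun s h => not_dvd_of_notDvd (hT.reg s) hq (by simpa [hN, expo] using h))
    hq (one_dvd _) (fun k hk h => not_dvd_of_notDvd (hT.free k hk) hq (by
      rw [evalL_sub]
      simpa [hN, expo] using h))
    hmG (by rw [pow_one]; exact hmc) hσm
  refine ⟨(k : ℤ), Subtype.ext (mapGL_injective ι ?_)⟩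
  show mapGL D ι ((x' ^ (k : ℤ) : ↥(D.group F)) : GL D.Idx F) = Y
  rw [zpow_natCast, hxpow, ← hmt, hmdef]
  group

end Torus

end Cfsg.Agent.H67.Chev
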