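import Cfsg.Agent.H13.RealSizes.Defs

/-!
# Real elements of odd prime order lift
-/

set_option autoImplicit false
set_option linter.style.haveILetI false

namespace Cfsg.Agent.H67

open Cfsg.Agent.H13.RealSizes

/-- A real element of odd prime order of a quotient is the image of a real element. -/
theorem exists_real_lift_odd_prime {G : Type*} [Group G] [Finite G] (N : Subgroup G) [N.Normal]
    {q : G ⧸ N} (hq : OddPrimeOrder q) (hr : IsConj q q⁻¹) :
    ∃ y : G, (y : G ⧸ N) = q ∧ IsConj y y⁻¹ := by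
  classical
  set p := orderOf q with hp
  haveI : Fact p.Prime := ⟨hq.1⟩
  obtain ⟨c, hc⟩ := isConj_iff.1 hr
  obtain ⟨g₀, rfl⟩ := QuotientGroup.mk_surjective c
  -- the preimage of the cyclic subgroup, and a Sylow subgroup of it
  set mk : G →* G ⧸ N := QuotientGroup.mk' N
  set S : Subgroup G := (Subgroup.zpowers q).comap mk
  have hg₀S : ∀ x ∈ S, g₀ * x * g₀⁻¹ ∈ S := by
    intro x hx
    rw [Subgroup.mem_comap] at hx ⊢
    obtain ⟨i, hi⟩ := Subgroup.mem_zpowers_iff.1 hx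
    refine Subgroup.mem_zpowers_iff.2 ⟨-i, ?_⟩
    rw [map_mul, map_mul, map_inv, ← hi]
    show q ^ (-i) = (g₀ : G ⧸ N) * q ^ i * (g₀ : G ⧸ N)⁻¹
    rw [← conj_zpow, hc, inv_zpow']
  obtain ⟨P⟩ : Nonempty (Sylow p S) := inferInstance
  -- a normalising element
  let σ : S →* S :=
    { toFun := fun x => ⟨g₀ * x * g₀⁻¹, hg₀S x x.2⟩
      map_one' := Subtype.ext (by simp)
      map_mul' := fun x y => Subtype.ext (by simp [mul_assoc]) }
  have hσ : Function.Bijective σ := Finite.injective_iff_bijective.1 fun x y h => Subtype.ext (by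
    have := congrArg Subtype.val h
    simpa [σ] using this)
  obtain ⟨s, hs⟩ := MulAction.exists_smul_eq S (P.mapSurjective hσ.2) P
  set g₁ : G := (s : G) * g₀ with hg₁
  have hqs : mk (s : G) * q * (mk (s : G))⁻¹ = q := by
    obtain ⟨i, hi⟩ := Subgroup.mem_zpowers_iff.1 (show mk (s : G) ∈ Subgroup.zpowers q from s.2)
    rw [← hi, ← zpow_add_one, ← zpow_neg, ← zpow_add]
    simp
  have hg₁q : mk g₁ * q * (mk g₁)⁻¹ = q⁻¹ := by
    have h : mk g₀ * q * (mk g₀)⁻¹ = q⁻¹ := hc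
    rw [hg₁, map_mul, mul_inv_rev, show mk (s : G) * mk g₀ * q * ((mk g₀)⁻¹ * (mk (s : G))⁻¹) =
      mk (s : G) * (mk g₀ * q * (mk g₀)⁻¹) * (mk (s : G))⁻¹ by group, h]
    conv_rhs => rw [← hqs]
    group
  set Q : Subgroup G := (P : Subgroup S).map S.subtype with hQ
  have hg₁Q : ∀ x ∈ Q, g₁ * x * g₁⁻¹ ∈ Q := by
    intro x hx
    obtain ⟨x', hx', rfl⟩ := Subgroup.mem_map.1 hx
    have h : σ x' ∈ ((P.mapSurjective hσ.2 : Sylow p S) : Subgroup S) := by
      rw [Sylow.coe_mapSurjective]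
      exact Subgroup.mem_map_of_mem σ hx'
    have h2 : s * σ x' * s⁻¹ ∈ (P : Subgroup S) := by
      rw [← hs, Sylow.coe_subgroup_smul, Subgroup.mem_pointwise_smul_iff_inv_smul_mem]
      simpa [mul_assoc] using h
    refine Subgroup.mem_map.2 ⟨_, h2, ?_⟩
    show (s : G) * (g₀ * x' * g₀⁻¹) * (s : G)⁻¹ = g₁ * x' * g₁⁻¹
    rw [hg₁]
    group
  -- its part of two-power order
  obtain ⟨k, m, hm, hkm⟩ := Nat.exists_eq_two_pow_mul_odd (orderOf_pos g₁).ne'
  set g : G := g₁ ^ m with hg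
  have hg2 : g ^ 2 ^ k = 1 := by rw [hg, ← pow_mul, mul_comm, ← hkm, pow_orderOf_eq_one]
  have hgq : mk g * q * (mk g)⁻¹ = q⁻¹ := by
    have key : ∀ j : ℕ, mk g₁ ^ (2 * j) * q * (mk g₁ ^ (2 * j))⁻¹ = q := by
      intro j
      induction j with
      | zero => simp
      | succ j ih =>
        rw [show 2 * (j + 1) = 1 + (1 + 2 * j) by ring, pow_add, pow_add, pow_one,
          show mk g₁ * (mk g₁ * mk g₁ ^ (2 * j)) * q * (mk g₁ * (mk g₁ * mk g₁ ^ (2 * j)))⁻¹ =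
            mk g₁ * (mk g₁ * (mk g₁ ^ (2 * j) * q * (mk g₁ ^ (2 * j))⁻¹) * (mk g₁)⁻¹) * (mk g₁)⁻¹ by group,
          ih, hg₁q, ← inv_inv q]
        conv_rhs => rw [← hg₁q]
        simp [mul_assoc]
    obtain ⟨j, hj⟩ := hm
    rw [hg, map_pow, hj, pow_succ', show mk g₁ * mk g₁ ^ (2 * j) * q * (mk g₁ * mk g₁ ^ (2 * j))⁻¹ =
      mk g₁ * (mk g₁ ^ (2 * j) * q * (mk g₁ ^ (2 * j))⁻¹) * (mk g₁)⁻¹ by group, key, hg₁q]
  have hgQ : ∀ x ∈ Q, g * x * g⁻¹ ∈ Q := by
    have hall : ∀ j : ℕ, ∀ x ∈ Q, g₁ ^ j * x * (g₁ ^ j)⁻¹ ∈ Q := by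
      intro j x hx
      induction j with
      | zero => simpa using hx
      | succ j ih =>
        rw [pow_succ', show g₁ * g₁ ^ j * x * (g₁ * g₁ ^ j)⁻¹ = g₁ * (g₁ ^ j * x * (g₁ ^ j)⁻¹) * g₁⁻¹ by group]
        exact hg₁Q _ ih
    exact hall m
  -- some element of the Sylow subgroup lies over `q`
  have hover : ∃ x ∈ Q, mk x = q := by
    obtain ⟨a, ha⟩ := QuotientGroup.mk_surjective q
    have haS : a ∈ S := by
      show mk a ∈ Subgroup.zpowers q
      rw [show mk a = q from ha]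
      exact Subgroup.mem_zpowers q
    let π : S →* Subgroup.zpowers q :=
      { toFun := fun x => ⟨mk x, x.2⟩, map_one' := Subtype.ext (map_one mk),
        map_mul' := fun x y => Subtype.ext (map_mul mk _ _) }
    have hπ : Function.Surjective π := by
      rintro ⟨y, hy⟩
      obtain ⟨b, rfl⟩ := QuotientGroup.mk_surjective y
      exact ⟨⟨b, hy⟩, rfl⟩
    have htop : ((P.mapSurjective hπ : Sylow p (Subgroup.zpowers q)) : Subgroup (Subgroup.zpowers q)) = ⊤ := by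
      have hP' : IsPGroup p (Subgroup.zpowers q) :=
        IsPGroup.of_card (n := 1) (by rw [Nat.card_zpowers, pow_one])
      exact ((P.mapSurjective hπ).is_maximal' (hP'.to_subgroup ⊤) le_top).symm
    have : (⟨q, Subgroup.mem_zpowers q⟩ : Subgroup.zpowers q) ∈
        ((P.mapSurjective hπ : Sylow p (Subgroup.zpowers q)) : Subgroup _) := htop ▸ Subgroup.mem_top _
    rw [Sylow.coe_mapSurjective] at this
    obtain ⟨x, hx, hxq⟩ := Subgroup.mem_map.1 this
    exact ⟨x, Subgroup.mem_map_of_mem _ hx, congrArg Subtype.val hxq⟩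
  -- a fixed point of inverse conjugation
  let X := {x : G // x ∈ Q ∧ mk x = q}
  let τ : X → X := fun x => ⟨g * x.1⁻¹ * g⁻¹, hgQ _ (inv_mem x.2.1), by
    rw [map_mul, map_mul, map_inv, map_inv, x.2.2]
    have := congrArg (·⁻¹) hgq
    simpa [mul_assoc] using this⟩
  have hτit : ∀ (j : ℕ) (x : X), ((τ^[2 * j]) x).1 = g ^ (2 * j) * x.1 * (g ^ (2 * j))⁻¹ := by
    intro j x
    induction j with
    | zero => simp
    | succ j ih =>
      rw [show 2 * (j + 1) = 2 * j + 1 + 1 by ring, Function.iterate_succ_apply',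
        Function.iterate_succ_apply']
      show g * (g * ((τ^[2 * j]) x).1⁻¹ * g⁻¹)⁻¹ * g⁻¹ = _
      rw [ih, pow_succ', pow_succ']
      group
  have hτ2 : τ^[2 ^ (k + 1)] = id := by
    funext x
    refine Subtype.ext ?_
    rw [pow_succ', hτit, id_eq, pow_mul, pow_right_comm, hg2, one_pow]
    group
  obtain ⟨r, hr'⟩ : ∃ r : ℕ, 2 ^ (k + 1) = r + 1 :=
    ⟨2 ^ (k + 1) - 1, by have := Nat.two_pow_pos (k + 1); omega⟩
  let e : Equiv.Perm X :=
    ⟨τ, τ^[r], fun x => by rw [← Function.iterate_succ_apply, Nat.succ_eq_add_one, ← hr', hτ2, id_eq],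
      fun x => by rw [← Function.iterate_succ_apply' τ, Nat.succ_eq_add_one, ← hr', hτ2, id_eq]⟩
  have he : e ^ 2 ^ (k + 1) = 1 := Equiv.ext fun x => by
    rw [Equiv.Perm.coe_pow]
    exact congrFun hτ2 x
  have hZ : IsPGroup 2 (Subgroup.zpowers e) := by
    intro y
    obtain ⟨i, hi⟩ := Subgroup.mem_zpowers_iff.1 y.2
    refine ⟨k + 1, Subtype.ext ?_⟩
    rw [SubgroupClass.coe_pow, OneMemClass.coe_one, ← hi, ← zpow_natCast, ← zpow_mul, mul_comm, zpow_mul,
      zpow_natCast, he, one_zpow]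
  have hodd : ¬ 2 ∣ Nat.card X := by
    obtain ⟨a, haQ, haq⟩ := hover
    have hcard : Nat.card X = Nat.card ↥(Q ⊓ N) := by
      refine Nat.card_congr ⟨fun x => ⟨a⁻¹ * x.1, (mul_mem (inv_mem haQ) x.2.1 : a⁻¹ * x.1 ∈ Q), ?_⟩,
        fun y => ⟨a * y.1, mul_mem haQ y.2.1, ?_⟩, fun x => Subtype.ext (mul_inv_cancel_left _ _),
        fun y => Subtype.ext (inv_mul_cancel_left _ _)⟩
      · exact QuotientGroup.eq.1 (show mk a = mk x.1 from haq.trans x.2.2.symm)
      · rw [map_mul, haq, show mk y.1 = 1 from (QuotientGroup.eq_one_iff _).2 y.2.2, mul_one]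
    obtain ⟨n, hn⟩ := IsPGroup.iff_card.1 ((P.isPGroup'.map S.subtype).to_le (inf_le_left : Q ⊓ N ≤ Q))
    rw [hcard, hn]
    intro h
    exact hq.2 ((Nat.prime_dvd_prime_iff_eq Nat.prime_two hq.1).1 (Nat.prime_two.dvd_of_dvd_pow h)).symm
  haveI : Fact (Nat.Prime 2) := ⟨Nat.prime_two⟩
  obtain ⟨x, hx⟩ := hZ.nonempty_fixed_point_of_prime_not_dvd_card X hodd
  have hfix : τ x = x := hx ⟨e, Subgroup.mem_zpowers e⟩
  refine ⟨x.1, x.2.2, isConj_iff.2 ⟨g, ?_⟩⟩
  have h := congrArg (fun z : X => z.1⁻¹) hfix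
  simp only [τ, mul_inv_rev, inv_inv] at h
  rw [← mul_assoc] at h
  exact h

end Cfsg.Agent.H67
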